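import Mathlib

/-!
Sylow 2-subgroups of symmetric and alternating groups on `(Fin k × Bool) ⊕ Fin r`, `r ≤ 1`:
self-normalization, built by recursion on the pairing of the points.
-/

set_option autoImplicit false

namespace Cfsg.Agent.AltSylow

open Equiv

/-- The point set: `k` pairs and `r` further points (`r` is 0 or 1 in use). -/
abbrev Pt (k r : ℕ) : Type := (Fin k × Bool) ⊕ Fin r

/-- The pair of a point. -/
def proj {k r : ℕ} : Pt k r → Option (Fin k) := Sum.elim (fun p => some p.1) (fun _ => none)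

/-- `σ` lies over the permutation `τ` of the pairs. -/
def Over {k r : ℕ} (σ : Perm (Pt k r)) (τ : Perm (Fin k)) : Prop :=
  ∀ x, proj (σ x) = (proj x).map τ

theorem over_mul {k r : ℕ} {σ σ' : Perm (Pt k r)} {τ τ' : Perm (Fin k)} (h : Over σ τ) (h' : Over σ' τ') :
    Over (σ * σ') (τ * τ') := by
  intro x
  rw [Perm.mul_apply, h, h', Option.map_map]
  rfl

theorem over_one {k r : ℕ} : Over (1 : Perm (Pt k r)) (1 : Perm (Fin k)) := by
  intro x; rcases x with p | u <;> rfl

theorem over_inv {k r : ℕ} {σ : Perm (Pt k r)} {τ : Perm (Fin k)} (h : Over σ τ) : Over σ⁻¹ τ⁻¹ := by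
  intro x
  have h1 := h (σ⁻¹ x)
  have h2 : σ (σ⁻¹ x) = x := by simp
  rw [h2] at h1
  have h3 : (⇑τ⁻¹ ∘ ⇑τ) = id := by funext i; simp
  rw [h1, Option.map_map, h3]; simp

theorem over_pow {k r : ℕ} {σ : Perm (Pt k r)} {τ : Perm (Fin k)} (h : Over σ τ) :
    ∀ n : ℕ, Over (σ ^ n) (τ ^ n)
  | 0 => over_one
  | n + 1 => by rw [pow_succ, pow_succ]; exact over_mul (over_pow h n) h

theorem over_unique {k r : ℕ} {σ : Perm (Pt k r)} {τ τ' : Perm (Fin k)} (h : Over σ τ) (h' : Over σ τ') :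
    τ = τ' := by
  ext i
  have h1 := (h (.inl (i, false))).symm.trans (h' (.inl (i, false)))
  simpa [proj, Fin.val_inj] using h1

/-- The subgroup of permutations lying over a member of `Q`. -/
def pre {k : ℕ} (r : ℕ) (Q : Subgroup (Perm (Fin k))) : Subgroup (Perm (Pt k r)) where
  carrier := {σ | ∃ τ ∈ Q, Over σ τ}
  mul_mem' := by
    rintro a b ⟨τ, hτ, h⟩ ⟨τ', hτ', h'⟩
    exact ⟨τ * τ', mul_mem hτ hτ', over_mul h h'⟩
  one_mem' := ⟨1, one_mem _, over_one⟩
  inv_mem' := by
    rintro a ⟨τ, hτ, h⟩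
    exact ⟨τ⁻¹, inv_mem hτ, over_inv h⟩

theorem mem_pre {k r : ℕ} {Q : Subgroup (Perm (Fin k))} {σ : Perm (Pt k r)} :
    σ ∈ pre r Q ↔ ∃ τ ∈ Q, Over σ τ := Iff.rfl

theorem pre_mono {k r : ℕ} {Q Q' : Subgroup (Perm (Fin k))} (h : Q ≤ Q') : pre r Q ≤ pre r Q' :=
  fun _ ⟨τ, hτ, hσ⟩ => ⟨τ, h hτ, hσ⟩

/-- The lift of a permutation of the pairs. -/
def lift {k : ℕ} (r : ℕ) (τ : Perm (Fin k)) : Perm (Pt k r) :=
  Equiv.sumCongr (Equiv.prodCongr τ (Equiv.refl Bool)) (Equiv.refl (Fin r))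

theorem lift_inl {k : ℕ} (r : ℕ) (τ : Perm (Fin k)) (i : Fin k) (b : Bool) :
    lift r τ (.inl (i, b)) = .inl (τ i, b) := rfl

theorem lift_inr {k : ℕ} (r : ℕ) (τ : Perm (Fin k)) (u : Fin r) : lift r τ (.inr u) = .inr u := rfl

theorem over_lift {k r : ℕ} (τ : Perm (Fin k)) : Over (lift r τ) τ := by
  intro x; rcases x with ⟨i, b⟩ | u <;> rfl

theorem lift_mem_pre {k r : ℕ} {Q : Subgroup (Perm (Fin k))} {τ : Perm (Fin k)} (h : τ ∈ Q) :
    lift r τ ∈ pre r Q := ⟨τ, h, over_lift τ⟩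

theorem lift_mem_alt {k r : ℕ} (τ : Perm (Fin k)) : lift r τ ∈ alternatingGroup (Pt k r) := by
  have h1 : Perm.sign (Equiv.prodCongr τ (Equiv.refl Bool)) = 1 := by
    have h : Equiv.prodCongr τ (Equiv.refl Bool) = Equiv.prodCongrLeft (fun _ : Bool => τ) := by
      ext ⟨i, b⟩ <;> rfl
    rw [h, Perm.sign_prodCongrLeft, Finset.prod_const, Finset.card_univ, Fintype.card_bool,
      pow_two, Int.units_mul_self]
  rw [Perm.mem_alternatingGroup, lift, Perm.sign_sumCongr, h1, Perm.sign_refl, one_mul]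

/-- The swap of the two points of pair `i`. -/
def flip {k r : ℕ} (i : Fin k) : Perm (Pt k r) := Equiv.swap (.inl (i, false)) (.inl (i, true))

theorem flip_apply_self {k r : ℕ} (i : Fin k) (b : Bool) :
    flip (r := r) i (.inl (i, b)) = .inl (i, !b) := by
  cases b <;> simp [flip]

theorem flip_apply_ne {k r : ℕ} (i : Fin k) {x : Pt k r} (h : proj x ≠ some i) : flip i x = x := by
  refine Equiv.swap_apply_of_ne_of_ne ?_ ?_ <;> · rintro rfl; exact h rfl

theorem sign_flip {k r : ℕ} (i : Fin k) : Perm.sign (flip (r := r) i) = -1 :=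
  Perm.sign_swap (by simp)

theorem over_flip {k r : ℕ} (i : Fin k) : Over (flip (r := r) i) 1 := by
  intro x
  by_cases h : proj x = some i
  · rcases x with ⟨j, b⟩ | u
    · have hj : j = i := by simpa [proj] using h
      subst hj
      rw [flip_apply_self]; rfl
    · simp [proj] at h
  · rw [flip_apply_ne i h]
    cases proj x <;> rfl

theorem flip_mem_pre {k r : ℕ} {Q : Subgroup (Perm (Fin k))} (i : Fin k) : flip i ∈ pre r Q :=
  ⟨1, one_mem _, over_flip i⟩

theorem flip_mul_flip_mem_alt {k r : ℕ} (i j : Fin k) : flip i * flip j ∈ alternatingGroup (Pt k r) := by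
  rw [Perm.mem_alternatingGroup, map_mul, sign_flip, sign_flip, neg_mul_neg, one_mul]

theorem proj_fiber {k r : ℕ} (hr : r ≤ 1) {a b c : Pt k r} (hab : proj a = proj b) (hcb : proj c = proj b)
    (h1 : a ≠ b) (h2 : c ≠ a) : c = b := by
  rcases b with ⟨j, bb⟩ | u
  · rcases a with ⟨i, ba⟩ | v
    · rcases c with ⟨l, bc⟩ | w
      · simp only [proj, Sum.elim_inl, Option.some.injEq] at hab hcb
        subst hab hcb
        cases ba <;> cases bb <;> cases bc <;> simp_all
      · simp [proj] at hcb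
    · simp [proj] at hab
  · rcases a with ⟨i, ba⟩ | v
    · simp [proj] at hab
    · exact absurd (congrArg Sum.inr (by ext; omega : v = u)) h1

theorem fix_of_pre {k r : ℕ} (hr : r ≤ 1) {σ : Perm (Pt k r)} {Q : Subgroup (Perm (Fin k))} (hσ : σ ∈ pre r Q)
    {y z : Pt k r} (hyz : proj y = proj z) (hy : σ y = y) : σ z = z := by
  obtain ⟨τ, -, hτ⟩ := hσ
  by_cases h : y = z
  · rw [← h, hy]
  have h1 : proj (σ z) = proj z := by
    rw [hτ z, ← hyz, ← hτ y, hy]
  exact proj_fiber hr hyz h1 h (fun h2 => h (σ.injective (hy.trans h2.symm)))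

theorem isPGroup_pre {k r : ℕ} (hr : r ≤ 1) {Q : Subgroup (Perm (Fin k))} (hQ : IsPGroup 2 Q) :
    IsPGroup 2 (pre r Q) := by
  rintro ⟨σ, τ, hτ, hσ⟩
  obtain ⟨n, hn⟩ := hQ ⟨τ, hτ⟩
  refine ⟨n + 1, Subtype.ext ?_⟩
  have hn' : τ ^ 2 ^ n = 1 := by simpa using congrArg Subtype.val hn
  have h1 := over_pow hσ (2 ^ n)
  rw [hn'] at h1
  have h1' : ∀ y, proj ((σ ^ 2 ^ n) y) = proj y := fun y => by
    rw [h1 y]; cases proj y <;> rfl
  show σ ^ 2 ^ (n + 1) = 1
  rw [pow_succ, pow_mul, sq]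
  ext x : 1
  rw [Perm.mul_apply, Perm.one_apply]
  by_cases hx : (σ ^ 2 ^ n) x = x
  · rw [hx, hx]
  · exact proj_fiber hr (h1' x) ((h1' _).trans (h1' x)) hx
      (fun h => hx ((σ ^ 2 ^ n).injective h))

/-- A subgroup that contains its normalizer. -/
def SelfNorm {G : Type*} [Group G] (Q : Subgroup G) : Prop :=
  ∀ g : G, (∀ x, x ∈ Q ↔ g * x * g⁻¹ ∈ Q) → g ∈ Q

/-- The key argument: a group `X` lying in `pre r ⊤`, containing a lift of every element of `Q`
and separating different pairs by point stabilizers, has its normalizer inside `pre r Q`. -/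
theorem mem_pre_of_normalizes {k r : ℕ} (hr : r ≤ 1) {Q : Subgroup (Perm (Fin k))} (hQ : SelfNorm Q)
    {X : Subgroup (Perm (Pt k r))} (hX : X ≤ pre r Q) (hlift : ∀ q ∈ Q, lift r q ∈ X)
    (hsep : ∀ y z : Pt k r, proj y ≠ proj z → ∃ x ∈ X, ¬ (x y = y ↔ x z = z))
    (g : Perm (Pt k r)) (hg : ∀ x, x ∈ X ↔ g * x * g⁻¹ ∈ X) : g ∈ pre r Q := by
  have key : ∀ h : Perm (Pt k r), (∀ x, x ∈ X → h⁻¹ * x * h ∈ X) → ∀ y z, proj y = proj z →
      proj (h y) = proj (h z) := by
    intro h hh y z hyz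
    by_contra hne
    obtain ⟨x, hx, hnx⟩ := hsep _ _ hne
    have hiff : ∀ w, (h⁻¹ * x * h) w = w ↔ x (h w) = h w := by
      intro w
      simp [Perm.mul_apply, Equiv.symm_apply_eq]
    exact hnx ⟨fun h1 => (hiff z).1 (fix_of_pre hr (hX (hh x hx)) hyz ((hiff y).2 h1)),
      fun h1 => (hiff y).1 (fix_of_pre hr (hX (hh x hx)) hyz.symm ((hiff z).2 h1))⟩
  have hgf : ∀ y z, proj y = proj z → proj (g y) = proj (g z) :=
    key g fun x hx => by
      have := (hg (g⁻¹ * x * g)).2 (by simpa [mul_assoc] using hx)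
      exact this
  have hgb : ∀ y z, proj y = proj z → proj (g⁻¹ y) = proj (g⁻¹ z) :=
    key g⁻¹ fun x hx => by simpa using (hg x).1 hx
  have hsome : ∀ i : Fin k, ∃ j, proj (g (.inl (i, false))) = some j := by
    intro i
    cases hc : g (.inl (i, false)) with
    | inl p => exact ⟨p.1, rfl⟩
    | inr u =>
      exfalso
      have h1 := hgf (.inl (i, false)) (.inl (i, true)) rfl
      rw [hc] at h1
      cases hd : g (.inl (i, true)) with
      | inl p => simp [proj, hd] at h1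
      | inr v =>
        have huv : u = v := by ext; omega
        subst huv
        simpa using g.injective (hc.trans hd.symm)
  choose f hf using hsome
  have hinj : Function.Injective f := by
    intro i j hij
    have h1 := hgb (g (.inl (i, false))) (g (.inl (j, false))) (by rw [hf, hf, hij])
    simpa [proj] using h1
  let τ : Perm (Fin k) := Equiv.ofBijective f (Finite.injective_iff_bijective.1 hinj)
  have hov : Over g τ := by
    intro x
    rcases x with ⟨i, b⟩ | u
    · rw [hgf (.inl (i, b)) (.inl (i, false)) rfl, hf]; rfl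
    · show proj (g (.inr u)) = none
      cases hc : proj (g (.inr u)) with
      | none => rfl
      | some j =>
        exfalso
        obtain ⟨i, hi⟩ := (Finite.injective_iff_bijective.1 hinj).2 j
        have h1 := hgb (g (.inr u)) (g (.inl (i, false))) (by rw [hc, hf, hi])
        simp [proj] at h1
  refine ⟨τ, hQ τ fun q => ⟨fun hq => ?_, fun hq => ?_⟩, hov⟩
  · obtain ⟨τ', hτ', h'⟩ := hX ((hg _).1 (hlift q hq))
    rwa [over_unique h' (over_mul (over_mul hov (over_lift q)) (over_inv hov))] at hτ'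
  · have hx : g⁻¹ * lift r (τ * q * τ⁻¹) * g ∈ X :=
      (hg _).2 (by simpa [mul_assoc] using hlift _ hq)
    obtain ⟨τ', hτ', h'⟩ := hX hx
    rw [over_unique h' (over_mul (over_mul (over_inv hov) (over_lift _)) hov)] at hτ'
    simpa [mul_assoc] using hτ'

theorem selfNorm_pre {k r : ℕ} (hr : r ≤ 1) {Q : Subgroup (Perm (Fin k))} (hQ : SelfNorm Q) :
    SelfNorm (pre r Q) := by
  intro g hg
  refine mem_pre_of_normalizes hr hQ le_rfl (fun q hq => lift_mem_pre hq) ?_ g hg
  intro y z hyz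
  rcases y with ⟨i, b⟩ | u
  · refine ⟨flip i, flip_mem_pre i, fun h => ?_⟩
    have h2 : flip i z = z := flip_apply_ne i (fun h' => hyz h'.symm)
    have h3 := h.2 h2
    rw [flip_apply_self] at h3
    simp at h3
  · rcases z with ⟨j, b⟩ | v
    · refine ⟨flip j, flip_mem_pre j, fun h => ?_⟩
      have h2 : flip j (Sum.inr u : Pt k r) = Sum.inr u := flip_apply_ne j (by simp [proj])
      have h3 := h.1 h2
      rw [flip_apply_self] at h3
      simp at h3
    · exact absurd rfl hyz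

/-- The even part of `pre r Q` is self-normalizing in the symmetric group once there are at least
three pairs; hence so is it in the alternating group. -/
theorem mem_pre_of_normalizes_even {k r : ℕ} (hr : r ≤ 1) (hk : 3 ≤ k) {Q : Subgroup (Perm (Fin k))}
    (hQ : SelfNorm Q) (g : Perm (Pt k r))
    (hg : ∀ x, x ∈ pre r Q ⊓ alternatingGroup (Pt k r) ↔
      g * x * g⁻¹ ∈ pre r Q ⊓ alternatingGroup (Pt k r)) : g ∈ pre r Q := by
  refine mem_pre_of_normalizes hr hQ inf_le_left (fun q hq => ⟨lift_mem_pre hq, lift_mem_alt q⟩) ?_ g hg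
  have hmain : ∀ (i : Fin k) (b : Bool) (z : Pt k r), proj z ≠ some i →
      ∃ x ∈ pre r Q ⊓ alternatingGroup (Pt k r), x z = z ∧ x (.inl (i, b)) ≠ .inl (i, b) := by
    intro i b z hz
    obtain ⟨j, hji, hjz⟩ : ∃ j : Fin k, j ≠ i ∧ some j ≠ proj z := by
      cases hz' : proj z with
      | none =>
        obtain ⟨j, hj⟩ := Fintype.exists_ne_of_one_lt_card (by simp; omega) i
        exact ⟨j, hj, by simp⟩
      | some l =>
        have hlt : ({i, l} : Finset (Fin k)).card < (Finset.univ : Finset (Fin k)).card :=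
          lt_of_le_of_lt Finset.card_le_two (by simp; omega)
        obtain ⟨j, -, hj⟩ := Finset.exists_mem_notMem_of_card_lt_card hlt
        simp at hj
        exact ⟨j, hj.1, by simpa using hj.2⟩
    refine ⟨flip i * flip j, ⟨mul_mem (flip_mem_pre i) (flip_mem_pre j), flip_mul_flip_mem_alt i j⟩,
      ?_, ?_⟩
    · rw [Perm.mul_apply, flip_apply_ne j (Ne.symm hjz), flip_apply_ne i hz]
    · rw [Perm.mul_apply, flip_apply_ne j (by simpa [proj] using hji.symm), flip_apply_self]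
      simp
  intro y z hyz
  rcases y with ⟨i, b⟩ | u
  · obtain ⟨x, hx, h1, h2⟩ := hmain i b z (fun h' => hyz h'.symm)
    exact ⟨x, hx, fun h => h2 (h.2 h1)⟩
  · rcases z with ⟨j, b⟩ | v
    · obtain ⟨x, hx, h1, h2⟩ := hmain j b (.inr u) (by simp [proj])
      exact ⟨x, hx, fun h => h2 (h.1 h1)⟩
    · exact absurd rfl hyz

end Cfsg.Agent.AltSylow
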