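import Cfsg.Agent.AltSylow.Tower

/-!
Overgroups of the Sylow 2-subgroup `pre r Q` of `Perm (Pt k r)`.
-/

set_option autoImplicit false

namespace Cfsg.Agent.AltSylow

open Equiv
open scoped Pointwise

theorem smul_block_eq {G X : Type*} [Group G] [MulAction G X] {B : Set X} (hB : MulAction.IsBlock G B)
    {g : G} {x : X} (hx : x ∈ B) (hgx : g • x ∈ B) : g • B = B :=
  hB.smul_eq_of_nonempty ⟨g • x, Set.smul_mem_smul_set hx, hgx⟩

/-- The cycle `x ↦ z ↦ y ↦ x`. -/
theorem threeCycle_apply {α : Type*} [DecidableEq α] {x y z : α} (hxy : x ≠ y) (hxz : x ≠ z) (hyz : y ≠ z) :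
    (swap x y * swap x z) x = z ∧ (swap x y * swap x z) y = x ∧ (swap x y * swap x z) z = y ∧
    ∀ w, w ≠ x → w ≠ y → w ≠ z → (swap x y * swap x z) w = w := by
  refine ⟨?_, ?_, ?_, fun w h1 h2 h3 => ?_⟩
  · rw [Perm.mul_apply, swap_apply_left, swap_apply_of_ne_of_ne hxz.symm hyz.symm]
  · rw [Perm.mul_apply, swap_apply_of_ne_of_ne hxy.symm hyz, swap_apply_right]
  · rw [Perm.mul_apply, swap_apply_right, swap_apply_left]
  · rw [Perm.mul_apply, swap_apply_of_ne_of_ne h1 h3, swap_apply_of_ne_of_ne h1 h2]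

theorem threeCycle_mem_alt {α : Type*} [Fintype α] [DecidableEq α] {x y z : α} (hxy : x ≠ y) (hxz : x ≠ z)
    (hyz : y ≠ z) : swap x y * swap x z ∈ alternatingGroup α :=
  (Perm.isThreeCycle_swap_mul_swap_same hxy hxz hyz).mem_alternatingGroup

theorem threeCycle_mem_partStab {α : Type*} [Fintype α] [DecidableEq α] (S : Finset α) {x y z : α}
    (hxy : x ≠ y) (hxz : x ≠ z) (hyz : y ≠ z) (h1 : x ∈ S ↔ y ∈ S) (h2 : x ∈ S ↔ z ∈ S) :
    swap x y * swap x z ∈ partStab S := by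
  obtain ⟨e1, e2, e3, e4⟩ := threeCycle_apply hxy hxz hyz
  have key : ∀ w, (swap x y * swap x z) w ∈ S ↔ w ∈ S := by
    intro w
    by_cases hwx : w = x
    · subst hwx; rw [e1]; exact h2.symm
    by_cases hwy : w = y
    · subst hwy; rw [e2]; exact h1
    by_cases hwz : w = z
    · subst hwz; rw [e3]; tauto
    rw [e4 w hwx hwy hwz]
  intro a b
  rw [key, key]

/-- The pairs over `Sk`, as a set of points. -/
def liftSet {k : ℕ} (r : ℕ) (Sk : Finset (Fin k)) : Finset (Pt k r) :=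
  (Sk ×ˢ (Finset.univ : Finset Bool)).map Function.Embedding.inl

theorem mem_liftSet {k r : ℕ} {Sk : Finset (Fin k)} {x : Pt k r} :
    x ∈ liftSet r Sk ↔ ∃ i ∈ Sk, proj x = some i := by
  rcases x with ⟨i, b⟩ | u <;> simp [liftSet, proj]

theorem card_liftSet {k r : ℕ} (Sk : Finset (Fin k)) : (liftSet r Sk).card = Sk.card * 2 := by
  simp [liftSet]

theorem pre_le_partStab {k r : ℕ} {Sk : Finset (Fin k)} {Q : Subgroup (Perm (Fin k))}
    (hlt : 0 < r → Skᶜ.card < Sk.card) (hQ : Q ≤ partStab Sk) : pre r Q ≤ partStab (liftSet r Sk) := by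
  rintro σ ⟨τ, hτ, hσ⟩ x y
  have hτS := hQ hτ
  have haux : ∀ z, σ z ∈ liftSet r Sk ↔ ∃ i, proj z = some i ∧ τ i ∈ Sk := by
    intro z
    rw [mem_liftSet, hσ z]
    cases proj z <;> simp
  rcases x with ⟨i, b⟩ | u <;> rcases y with ⟨j, b'⟩ | v
  · simpa [haux, mem_liftSet, proj] using hτS i j
  · have := partStab_strict (hlt (Nat.lt_of_le_of_lt (Nat.zero_le _) v.2)) hτS i
    simp [haux, mem_liftSet, proj, this]
  · have := partStab_strict (hlt (Nat.lt_of_le_of_lt (Nat.zero_le _) u.2)) hτS j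
    simp [haux, mem_liftSet, proj, this]
  · simp [haux, mem_liftSet, proj]

/-- With at least three pairs, the even permutations fixing the partition `{S, Sᶜ}` and the even
permutations fixing the pairing together generate a group containing the alternating group. -/
theorem alt_le_of_two_overgroups {k r : ℕ} (hk : 3 ≤ k) (hr : r ≤ 1) {Sk : Finset (Fin k)}
    (hle : Skᶜ.card ≤ Sk.card) (hne : Skᶜ.Nonempty) (hlt : 0 < r → Skᶜ.card < Sk.card)
    {K : Subgroup (Perm (Pt k r))}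
    (h1 : partStab (liftSet r Sk) ⊓ alternatingGroup (Pt k r) ≤ K)
    (h2 : pre r ⊤ ⊓ alternatingGroup (Pt k r) ≤ K) : alternatingGroup (Pt k r) ≤ K := by
  classical
  have hSk := Finset.card_add_card_compl Sk
  rw [Fintype.card_fin] at hSk
  obtain ⟨i0, hi0, i1, hi1, hi01⟩ := Finset.one_lt_card.1 (by omega : 1 < Sk.card)
  obtain ⟨j0, hj0⟩ := hne
  rw [Finset.mem_compl] at hj0
  set S := liftSet r Sk with hSdef
  have hcS : 4 ≤ S.card := by
    rw [hSdef, card_liftSet]; omega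
  let x0 : Pt k r := .inl (i0, false)
  have hx0 : x0 ∈ S := mem_liftSet.2 ⟨i0, hi0, rfl⟩
  have cyc : ∀ {x y z : Pt k r}, x ≠ y → x ≠ z → y ≠ z → (x ∈ S ↔ y ∈ S) → (x ∈ S ↔ z ∈ S) →
      swap x y * swap x z ∈ K := fun hxy hxz hyz a b =>
    h1 ⟨threeCycle_mem_partStab S hxy hxz hyz a b, threeCycle_mem_alt hxy hxz hyz⟩
  have third : ∀ a b : Pt k r, ∃ c ∈ S, c ≠ a ∧ c ≠ b := by
    intro a b
    obtain ⟨c, hc, hc'⟩ := Finset.exists_mem_notMem_of_card_lt_card
      (lt_of_le_of_lt (Finset.card_le_two (a := a) (b := b)) (by omega : 2 < S.card))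
    simp at hc'
    exact ⟨c, hc, hc'⟩
  let w : Perm (Pt k r) := lift r (swap i0 j0)
  have hw : w ∈ K := h2 ⟨lift_mem_pre trivial, lift_mem_alt _⟩
  have hwx : ∀ b, w (.inl (i0, b)) = .inl (j0, b) := by
    intro b; simp [w, lift_inl]
  -- every point is reached from x0
  have reach : ∀ t : Pt k r, ∃ g ∈ K, g x0 = t := by
    have inS : ∀ t ∈ S, ∃ g ∈ K, g x0 = t := by
      intro t ht
      by_cases h : t = x0
      · exact ⟨1, one_mem _, by simp [h]⟩
      obtain ⟨u, hu, hu1, hu2⟩ := third x0 t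
      refine ⟨_, cyc (x := x0) (y := u) (z := t) hu1.symm (Ne.symm h) hu2 ?_ ?_,
        (threeCycle_apply hu1.symm (Ne.symm h) hu2).1⟩
      · simp [hx0, hu]
      · simp [hx0, ht]
    intro t
    rcases t with ⟨j, b⟩ | u
    · by_cases hj : j ∈ Sk
      · exact inS _ (mem_liftSet.2 ⟨j, hj, rfl⟩)
      · obtain ⟨g, hg, hgx⟩ := inS (.inl (i0, b)) (mem_liftSet.2 ⟨i0, hi0, rfl⟩)
        refine ⟨lift r (swap i0 j) * g, mul_mem (h2 ⟨lift_mem_pre trivial, lift_mem_alt _⟩) hg, ?_⟩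
        rw [Perm.mul_apply, hgx, lift_inl, swap_apply_left]
    · have ha : ∀ b, (Sum.inl (j0, b) : Pt k r) ∉ S := by
        intro b h
        obtain ⟨i, hi, h'⟩ := mem_liftSet.1 h
        simp [proj] at h'
        exact hj0 (h' ▸ hi)
      have hu : (Sum.inr u : Pt k r) ∉ S := fun h => by
        obtain ⟨i, -, h'⟩ := mem_liftSet.1 h
        simp [proj] at h'
      refine ⟨(swap (Sum.inl (j0, false)) (Sum.inl (j0, true)) * swap (Sum.inl (j0, false)) (Sum.inr u)) * w,
        mul_mem (cyc (by simp) (by simp) (by simp) ?_ ?_) hw, ?_⟩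
      · simp [ha]
      · simp [ha, hu]
      · rw [Perm.mul_apply, hwx]
        exact (threeCycle_apply (by simp) (by simp) (by simp)).1
  have htrans : MulAction.IsPretransitive K (Pt k r) := by
    refine ⟨fun a b => ?_⟩
    obtain ⟨g, hg, hga⟩ := reach a
    obtain ⟨g', hg', hgb⟩ := reach b
    refine ⟨⟨g' * g⁻¹, mul_mem hg' (inv_mem hg)⟩, ?_⟩
    show (g' * g⁻¹) a = b
    rw [← hga]; simpa using hgb
  have hprim : MulAction.IsPreprimitive K (Pt k r) := by
    refine MulAction.IsPreprimitive.of_isTrivialBlock_base x0 fun {B} hB0 hB => ?_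
    by_cases hsub : B.Subsingleton
    · exact Or.inl hsub
    refine Or.inr ?_
    obtain ⟨y, hyB, hy0⟩ : ∃ y ∈ B, y ≠ x0 := by
      by_contra hcon
      push Not at hcon
      exact hsub fun a ha b hb => (hcon a ha).trans (hcon b hb).symm
    obtain ⟨y, hyB, hy0, hyS⟩ : ∃ y ∈ B, y ≠ x0 ∧ y ∈ S := by
      by_cases hyS : y ∈ S
      · exact ⟨y, hyB, hy0, hyS⟩
      obtain ⟨u, hu, hu1, -⟩ := third x0 x0
      obtain ⟨v, hv, hv1, hv2⟩ := third x0 u
      obtain ⟨e1, -, -, e4⟩ := threeCycle_apply hu1.symm hv1.symm hv2.symm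
      have hm := cyc hu1.symm hv1.symm hv2.symm (by simp [hx0, hu]) (by simp [hx0, hv])
      have hey : (swap x0 u * swap x0 v) y = y :=
        e4 y hy0 (fun h => hyS (h ▸ hu)) (fun h => hyS (h ▸ hv))
      have hsm := smul_block_eq hB (g := (⟨_, hm⟩ : K)) hyB (by
        show (swap x0 u * swap x0 v) y ∈ B
        rw [hey]; exact hyB)
      refine ⟨v, ?_, hv1, hv⟩
      rw [← hsm]
      exact ⟨x0, hB0, e1⟩
    have hSB : ∀ z ∈ S, z ∈ B := by
      intro z hz
      by_cases hzx : z = x0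
      · exact hzx ▸ hB0
      by_cases hzy : z = y
      · exact hzy ▸ hyB
      obtain ⟨e1, -, e3, -⟩ := threeCycle_apply (Ne.symm hzx) hy0.symm hzy
      have hm := cyc (Ne.symm hzx) hy0.symm hzy (by simp [hx0, hz]) (by simp [hx0, hyS])
      have hsm := smul_block_eq hB (g := (⟨_, hm⟩ : K)) hB0 (by
        show (swap x0 z * swap x0 y) x0 ∈ B
        rw [e1]; exact hyB)
      rw [← hsm]
      exact ⟨y, hyB, e3⟩
    by_contra huniv
    obtain ⟨z, hz⟩ := (Set.ne_univ_iff_exists_notMem _).1 huniv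
    obtain ⟨g, hg, hgx⟩ := reach z
    have hdisj : Disjoint ((⟨g, hg⟩ : K) • B) B := by
      rcases (MulAction.isBlock_iff_smul_eq_or_disjoint.1 hB) ⟨g, hg⟩ with h | h
      · exact absurd (h ▸ Set.smul_mem_smul_set hB0 : (⟨g, hg⟩ : K) • x0 ∈ B)
          (fun h' => hz (by rw [← hgx]; exact h'))
      · exact h
    let Bf : Finset (Pt k r) := B.toFinset
    have hSBf : S ⊆ Bf := fun a ha => Set.mem_toFinset.2 (hSB a ha)
    have himg : Bf.image g ⊆ Bfᶜ := by
      intro a ha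
      obtain ⟨b, hb, rfl⟩ := Finset.mem_image.1 ha
      rw [Finset.mem_compl, Set.mem_toFinset]
      exact Set.disjoint_left.1 hdisj ⟨b, Set.mem_toFinset.1 hb, rfl⟩
    have hc1 := Finset.card_le_card himg
    rw [Finset.card_image_of_injective _ g.injective] at hc1
    have hc2 := Finset.card_le_card hSBf
    have hc3 := Finset.card_add_card_compl Bf
    have hc4 : Fintype.card (Pt k r) = k * 2 + r := by simp [Pt]
    have hc5 : S.card = Sk.card * 2 := card_liftSet Sk
    have heq : S = Bf := by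
      refine Finset.eq_of_subset_of_card_le hSBf ?_
      rcases Nat.eq_zero_or_pos r with h | h
      · omega
      · have := hlt h; omega
    have hw0 : w (.inl (i0, false)) ∉ B := fun h => by
      have h' : w (.inl (i0, false)) ∈ S := heq ▸ Set.mem_toFinset.2 h
      rw [hwx] at h'
      obtain ⟨i, hi, h''⟩ := mem_liftSet.1 h'
      simp [proj] at h''
      exact hj0 (h'' ▸ hi)
    have hw1 : w (.inl (i1, false)) = .inl (i1, false) := by
      simp [w, lift_inl, swap_apply_of_ne_of_ne hi01.symm (fun h : i1 = j0 => hj0 (h ▸ hi1))]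
    have hi1B : (Sum.inl (i1, false) : Pt k r) ∈ B := hSB _ (mem_liftSet.2 ⟨i1, hi1, rfl⟩)
    have hsm := smul_block_eq hB (g := (⟨w, hw⟩ : K)) hi1B (by
      show w _ ∈ B
      rw [hw1]; exact hi1B)
    apply hw0
    rw [← hsm]
    exact ⟨x0, hB0, rfl⟩
  obtain ⟨u, hu, hu1, -⟩ := third x0 x0
  obtain ⟨v, hv, hv1, hv2⟩ := third x0 u
  exact Perm.alternatingGroup_le_of_isPreprimitive_of_isThreeCycle_mem hprim
    (Perm.isThreeCycle_swap_mul_swap_same hu1.symm hv1.symm hv2.symm)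
    (cyc hu1.symm hv1.symm hv2.symm (by simp [hx0, hu]) (by simp [hx0, hv]))

end Cfsg.Agent.AltSylow
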