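import Cfsg.Agent.AltSylow.Odd

/-!
Pronormality of the subgroups of odd index of alternating groups, and the degrees in which a Sylow
2-subgroup of an alternating or symmetric group lies in a unique maximal subgroup.
-/

set_option autoImplicit false

namespace Cfsg.Agent.AltSylow

open Equiv

theorem card_Pt (k r : ℕ) : Fintype.card (Pt k r) = k * 2 + r := by simp [Pt]

section Odd
variable {k : ℕ} (hk : 2 ≤ k) {Q : Subgroup (Perm (Fin k))} (hQ : Good Q) (hpow : ∃ l, k = 2 ^ l)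
include hk hQ hpow

theorem alt_le_of_moves (M : Subgroup (Perm (Pt k 1)))
    (hT : pre 1 Q ⊓ alternatingGroup (Pt k 1) ≤ M) {m : Perm (Pt k 1)} (hm : m ∈ M)
    (hmf : m (extraPt k) ≠ extraPt k) : alternatingGroup (Pt k 1) ≤ M := by
  classical
  by_cases hk4 : 4 ≤ k
  · exact threeCycle_or_card hk hQ hpow M hT hm hmf hk4
  have hk2 : k = 2 := by
    obtain ⟨l, hl⟩ := hpow
    rcases l with _ | _ | l
    · omega
    · simpa using hl
    · have : 0 < 2 ^ l := Nat.two_pow_pos l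
      rw [pow_succ, pow_succ] at hl; omega
  subst hk2
  have : Nontrivial (Pt 2 1) := ⟨⟨extraPt 2, .inl (0, false), extraPt_ne_inl _⟩⟩
  set A := alternatingGroup (Pt 2 1) with hA
  -- an even element of `M` moves the extra point
  obtain ⟨m', hm', hm'A, hm'f⟩ : ∃ m' ∈ M, m' ∈ A ∧ m' (extraPt 2) ≠ extraPt 2 := by
    by_contra hcon
    push Not at hcon
    obtain ⟨σ, hσ, hσx⟩ := exists_even_move hk hQ hpow (0 : Fin 2) 1 false false
    obtain ⟨htr, -⟩ := isPreprimitive_of_moves hk hQ hpow hT hm hmf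
    obtain ⟨⟨g, hg⟩, hgx⟩ := MulAction.exists_smul_eq M (extraPt 2) (Sum.inl ((0 : Fin 2), false))
    have hgx' : g (extraPt 2) = .inl ((0 : Fin 2), false) := hgx
    have hconj : g⁻¹ * σ * g ∈ A := by
      have := (alternatingGroup.normal (α := Pt 2 1)).conj_mem σ hσ.2 g⁻¹
      rwa [inv_inv] at this
    have h1 := hcon _ (mul_mem (mul_mem (inv_mem hg) (hT hσ)) hg) hconj
    rw [Perm.mul_apply, Perm.mul_apply, hgx', hσx, Perm.inv_eq_iff_eq, hgx'] at h1
    simp at h1
  set N : Subgroup A := M.subgroupOf A with hN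
  obtain ⟨htr', -⟩ := isPreprimitive_of_moves hk hQ hpow (M := M ⊓ A)
    (le_inf hT inf_le_right) ⟨hm', hm'A⟩ hm'f
  have htrN : MulAction.IsPretransitive N (Pt 2 1) := by
    refine ⟨fun a b => ?_⟩
    obtain ⟨⟨g, hg⟩, hgab⟩ := MulAction.exists_smul_eq (M ⊓ A : Subgroup _) a b
    exact ⟨⟨⟨g, hg.2⟩, hg.1⟩, hgab⟩
  have h5 : 5 ∣ Nat.card N := by
    have h := MulAction.index_stabilizer_of_transitive N (extraPt 2)
    rw [Nat.card_eq_fintype_card, card_Pt] at h
    have h' := Subgroup.index_dvd_card (MulAction.stabilizer N (extraPt 2))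
    rw [h] at h'
    exact h'
  have hAcard : Nat.card A = 60 := by
    have := two_mul_nat_card_alternatingGroup (α := Pt 2 1)
    rw [Nat.card_perm, Nat.card_eq_fintype_card (α := Pt 2 1), card_Pt] at this
    rw [show Nat.factorial (2 * 2 + 1) = 120 from rfl] at this
    change 2 * Nat.card A = 120 at this
    omega
  have h4 : 4 ∣ Nat.card N := by
    obtain ⟨P, hP⟩ := exists_sylow_eq_evenPre (k := 2) (r := 1) le_rfl hQ
    have hc : Nat.card P = 4 := by
      rw [P.card_eq_multiplicity, hAcard]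
      have : Nat.factorization 60 2 = 2 := by
        rw [show (60 : ℕ) = 2 ^ 2 * 15 by norm_num, Nat.factorization_mul (by norm_num) (by norm_num),
          Finsupp.add_apply, Nat.Prime.factorization_pow Nat.prime_two, Finsupp.single_eq_same,
          Nat.factorization_eq_zero_of_not_dvd (by norm_num)]
      rw [this]; norm_num
    rw [← hc]
    refine Subgroup.card_dvd_of_le ?_
    intro x hx
    rw [hP] at hx
    exact hT ⟨hx, x.2⟩
  have h20 : 20 ∣ Nat.card N := Nat.Coprime.mul_dvd_of_dvd_of_dvd (by norm_num) h4 h5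
  have hidx : N.index ∣ 3 := by
    have h := Subgroup.card_mul_index N
    rw [hAcard] at h
    obtain ⟨c, hc⟩ := h20
    exact ⟨c, by rw [hc] at h; linarith⟩
  have hsimple : IsSimpleGroup A := alternatingGroup.isSimpleGroup (by simp [Pt])
  have hNtop : N = ⊤ := by
    rcases (Nat.dvd_prime Nat.prime_three).1 hidx with h | h
    · exact Subgroup.index_eq_one.1 h
    exfalso
    rcases N.normalCore_normal.eq_bot_or_eq_top with hb | hb
    · have hinj : Function.Injective (MulAction.toPermHom A (A ⧸ N)) := by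
        rw [← MonoidHom.ker_eq_bot_iff, ← Subgroup.normalCore_eq_ker, hb]
      have := Nat.card_le_card_of_injective _ hinj
      rw [Nat.card_perm, show Nat.card (A ⧸ N) = 3 from h, hAcard] at this
      simp [Nat.factorial] at this
    · have : N = ⊤ := top_le_iff.1 (hb ▸ N.normalCore_le)
      rw [this] at h; simp at h
  intro x hx
  have : (⟨x, hx⟩ : A) ∈ N := hNtop ▸ Subgroup.mem_top _
  exact this

theorem eq_top_of_moves (M : Subgroup (Perm (Pt k 1))) (hT : pre 1 Q ≤ M) {m : Perm (Pt k 1)} (hm : m ∈ M)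
    (hmf : m (extraPt k) ≠ extraPt k) : M = ⊤ := by
  obtain ⟨-, hprim⟩ := isPreprimitive_of_moves hk hQ hpow (inf_le_left.trans hT) hm hmf
  exact Perm.subgroup_eq_top_of_isPreprimitive_of_isSwap_mem hprim (flip ⟨0, by omega⟩)
    ⟨_, _, by simp, rfl⟩ (hT (flip_mem_pre _))

end Odd

/-- `H` lies in exactly one maximal subgroup. -/
def UniqueMax {G : Type*} [Group G] (H : Subgroup G) : Prop := ∃! M : Subgroup G, IsCoatom M ∧ H ≤ M

theorem uniqueMax_map {G G' : Type*} [Group G] [Group G'] (e : G ≃* G') (H : Subgroup G) :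
    UniqueMax (H.map e.toMonoidHom) ↔ UniqueMax H := by
  have hM : ∀ M : Subgroup G, (IsCoatom (e.mapSubgroup M) ∧ H.map e.toMonoidHom ≤ e.mapSubgroup M) ↔
      (IsCoatom M ∧ H ≤ M) := fun M => by
    rw [OrderIso.isCoatom_iff, show H.map e.toMonoidHom = e.mapSubgroup H from rfl, OrderIso.le_iff_le]
  constructor
  · rintro ⟨M', hM', hu⟩
    obtain ⟨M, rfl⟩ := e.mapSubgroup.surjective M'
    exact ⟨M, (hM M).1 hM', fun M₂ h => e.mapSubgroup.injective (hu _ ((hM M₂).2 h))⟩
  · rintro ⟨M, hM', hu⟩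
    refine ⟨e.mapSubgroup M, (hM M).2 hM', fun M₂' h => ?_⟩
    obtain ⟨M₂, rfl⟩ := e.mapSubgroup.surjective M₂'
    rw [hu M₂ ((hM M₂).1 h)]

theorem uniqueMax_sylow {G : Type*} [Group G] [Finite G] {p : ℕ} [Fact p.Prime] (P R : Sylow p G) :
    UniqueMax (R : Subgroup G) ↔ UniqueMax (P : Subgroup G) := by
  obtain ⟨g, rfl⟩ := MulAction.exists_smul_eq G P R
  exact uniqueMax_map (MulAut.conj g) P

theorem forall_sylow_uniqueMax {G G' : Type*} [Group G] [Group G'] [Finite G] [Finite G'] {p : ℕ}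
    [Fact p.Prime] (e : G ≃* G') (P : Sylow p G) (R : Sylow p G') :
    UniqueMax (R : Subgroup G') ↔ UniqueMax (P : Subgroup G) := by
  rw [uniqueMax_sylow (P.mapSurjective (f := e.toMonoidHom) e.surjective) R]
  exact uniqueMax_map e P

theorem not_uniqueMax {G : Type*} [Group G] [Finite G] {T H₁ H₂ : Subgroup G} (h1 : T ≤ H₁) (h2 : T ≤ H₂)
    (t1 : H₁ ≠ ⊤) (t2 : H₂ ≠ ⊤) (hsup : H₁ ⊔ H₂ = ⊤) : ¬ UniqueMax T := by
  rintro ⟨M, ⟨hM, -⟩, huniq⟩
  obtain ⟨M1, hM1, hH1⟩ := (eq_top_or_exists_le_coatom H₁).resolve_left t1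
  obtain ⟨M2, hM2, hH2⟩ := (eq_top_or_exists_le_coatom H₂).resolve_left t2
  have e1 : M1 = M := huniq M1 ⟨hM1, h1.trans hH1⟩
  have e2 : M2 = M := huniq M2 ⟨hM2, h2.trans hH2⟩
  exact hM.1 (top_le_iff.1 (hsup ▸ sup_le (e1 ▸ hH1) (e2 ▸ hH2)))

theorem uniqueMax_of_forall {G : Type*} [Group G] {T H : Subgroup G} (h1 : T ≤ H) (t1 : H ≠ ⊤)
    (h : ∀ M : Subgroup G, T ≤ M → M ≠ ⊤ → M ≤ H) : UniqueMax T := by
  have hH : IsCoatom H := by
    refine ⟨t1, fun M hM => ?_⟩
    by_contra hne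
    exact absurd (h M (h1.trans hM.le) hne) (not_le_of_gt hM)
  refine ⟨H, ⟨hH, h1⟩, ?_⟩
  rintro M ⟨hM, hTM⟩
  rcases (h M hTM hM.1).lt_or_eq with h' | h'
  · exact absurd (hM.2 _ h') t1
  · exact h'

section Unique
variable {k : ℕ} (hk : 2 ≤ k) {Q : Subgroup (Perm (Fin k))} (hQ : Good Q) (hpow : ∃ l, k = 2 ^ l)
include hk hQ hpow

theorem evenPre_le_stabilizer :
    evenPre 1 Q ≤ MulAction.stabilizer (alternatingGroup (Pt k 1)) (extraPt k) :=
  fun _ hx => pre_fix_extraPt hx

theorem le_stabilizer_of_ne_top (M : Subgroup (alternatingGroup (Pt k 1))) (hM : evenPre 1 Q ≤ M) (hne : M ≠ ⊤) :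
    M ≤ MulAction.stabilizer (alternatingGroup (Pt k 1)) (extraPt k) := by
  intro m hm
  by_contra hmf
  refine hne (top_le_iff.1 fun x _ => ?_)
  have hle := alt_le_of_moves hk hQ hpow (M.map (alternatingGroup (Pt k 1)).subtype)
    (fun y hy => ⟨⟨y, hy.2⟩, hM hy.1, rfl⟩) ⟨m, hm, rfl⟩ hmf
  obtain ⟨y, hy, hyx⟩ := hle x.2
  exact Subtype.ext hyx ▸ hy

theorem stabilizer_alt_ne_top :
    MulAction.stabilizer (alternatingGroup (Pt k 1)) (extraPt k) ≠ ⊤ := by
  intro h
  let a : Pt k 1 := .inl (⟨0, by omega⟩, false)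
  let b : Pt k 1 := .inl (⟨0, by omega⟩, true)
  have h1 : extraPt k ≠ a := extraPt_ne_inl _
  have h2 : extraPt k ≠ b := extraPt_ne_inl _
  have h3 : a ≠ b := by simp [a, b]
  have := h ▸ Subgroup.mem_top (⟨_, threeCycle_mem_alt h1 h2 h3⟩ : alternatingGroup (Pt k 1))
  have hm : (swap (extraPt k) a * swap (extraPt k) b) (extraPt k) = extraPt k := this
  rw [(threeCycle_apply h1 h2 h3).1] at hm
  exact h2 hm.symm

theorem uniqueMax_evenPre : UniqueMax (evenPre 1 Q) :=
  uniqueMax_of_forall (evenPre_le_stabilizer hk hQ hpow) (stabilizer_alt_ne_top hk hQ hpow)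
    fun M hM hne => le_stabilizer_of_ne_top hk hQ hpow M hM hne

theorem uniqueMax_pre : UniqueMax (pre 1 Q) := by
  refine uniqueMax_of_forall (H := MulAction.stabilizer (Perm (Pt k 1)) (extraPt k))
    (fun x hx => pre_fix_extraPt hx) (fun h => ?_) fun M hM hne m hm => ?_
  · have := h ▸ Subgroup.mem_top (swap (extraPt k) (.inl (⟨0, by omega⟩, false)))
    have hm : swap (extraPt k) (Sum.inl (⟨0, by omega⟩, false)) (extraPt k) = extraPt k := this
    rw [swap_apply_left] at hm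
    exact extraPt_ne_inl _ hm.symm
  · by_contra hmf
    exact hne (eq_top_of_moves hk hQ hpow M hM hm hmf)

end Unique

section NotUnique
variable {k r : ℕ} (hk : 3 ≤ k) (hr : r ≤ 1) {Q : Subgroup (Perm (Fin k))} (hQ : Good Q)
  (hpow : ¬ (r = 1 ∧ ∃ l, k = 2 ^ l))
include hk hr hQ hpow

/-- The two overgroups: a partition stabilizer and the stabilizer of the pairing. -/
theorem exists_two_overgroups : ∃ H₁ H₂ : Subgroup (Perm (Pt k r)),
    pre r Q ≤ H₁ ∧ pre r Q ≤ H₂ ∧ ¬ alternatingGroup (Pt k r) ≤ H₁ ∧ ¬ alternatingGroup (Pt k r) ≤ H₂ ∧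
    ∀ K : Subgroup (Perm (Pt k r)), H₁ ⊓ alternatingGroup (Pt k r) ≤ K →
      H₂ ⊓ alternatingGroup (Pt k r) ≤ K → alternatingGroup (Pt k r) ≤ K := by
  obtain ⟨Sk, -, hne, hle, hlt', hQS⟩ := hQ.2.2.1 (by simp; omega)
  have hlt : 0 < r → Skᶜ.card < Sk.card := fun h => hlt' (fun hl => hpow ⟨by omega, by simpa using hl⟩)
  have hSk := Finset.card_add_card_compl Sk
  rw [Fintype.card_fin] at hSk
  obtain ⟨i, hi, i', hi', hii'⟩ := Finset.one_lt_card.1 (by omega : 1 < Sk.card)
  obtain ⟨j, hj⟩ := hne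
  rw [Finset.mem_compl] at hj
  refine ⟨partStab (liftSet r Sk), pre r ⊤, pre_le_partStab hlt hQS, pre_mono le_top, fun h => ?_,
    fun h => ?_, fun K h1 h2 => alt_le_of_two_overgroups hk hr hle ⟨j, Finset.mem_compl.2 hj⟩ hlt h1 h2⟩
  · have hij : i ≠ j := fun e => hj (e ▸ hi)
    have hw := h (lift_mem_alt (r := r) (swap i j)) (.inl (i, false)) (.inl (i', false))
    rw [lift_inl, lift_inl, swap_apply_left, swap_apply_of_ne_of_ne hii'.symm (fun e : i' = j => hj (e ▸ hi'))] at hw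
    simp [mem_liftSet, proj, hi, hi', hj] at hw
  · obtain ⟨τ, -, hτ⟩ := h (threeCycle_mem_alt (α := Pt k r) (x := .inl (i, false)) (y := .inl (i, true))
      (z := .inl (i', false)) (by simp) (by simp [hii']) (by simp [hii']))
    obtain ⟨e1, e2, -, -⟩ := threeCycle_apply (x := (Sum.inl (i, false) : Pt k r)) (y := .inl (i, true))
      (z := .inl (i', false)) (by simp) (by simp [hii']) (by simp [hii'])
    have := (hτ (.inl (i, false))).trans (hτ (.inl (i, true))).symm
    rw [e1, e2] at this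
    simp [proj, hii'.symm] at this

theorem not_uniqueMax_evenPre : ¬ UniqueMax (evenPre r Q) := by
  obtain ⟨H₁, H₂, l1, l2, n1, n2, hK⟩ := exists_two_overgroups hk hr hQ hpow
  refine not_uniqueMax (H₁ := H₁.subgroupOf _) (H₂ := H₂.subgroupOf _)
    (fun x hx => l1 hx) (fun x hx => l2 hx) ?_ ?_ ?_
  · rw [Ne, Subgroup.subgroupOf_eq_top]; exact n1
  · rw [Ne, Subgroup.subgroupOf_eq_top]; exact n2
  refine top_le_iff.1 fun x _ => ?_
  obtain ⟨y, hy, hyx⟩ := hK ((H₁.subgroupOf _ ⊔ H₂.subgroupOf _).map (alternatingGroup (Pt k r)).subtype)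
    (fun y hy => ⟨⟨y, hy.2⟩, Subgroup.mem_sup_left hy.1, rfl⟩)
    (fun y hy => ⟨⟨y, hy.2⟩, Subgroup.mem_sup_right hy.1, rfl⟩) x.2
  exact Subtype.ext hyx ▸ hy

theorem not_uniqueMax_pre : ¬ UniqueMax (pre r Q) := by
  obtain ⟨H₁, H₂, l1, l2, n1, n2, hK⟩ := exists_two_overgroups hk hr hQ hpow
  refine not_uniqueMax l1 l2 (fun h => n1 (h ▸ le_top)) (fun h => n2 (h ▸ le_top)) ?_
  have hA := hK (H₁ ⊔ H₂) (inf_le_left.trans le_sup_left) (inf_le_left.trans le_sup_right)
  have hf : flip (r := r) (⟨0, by omega⟩ : Fin k) ∈ H₁ ⊔ H₂ := Subgroup.mem_sup_left (l1 (flip_mem_pre _))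
  refine top_le_iff.1 fun x _ => ?_
  rcases Int.units_eq_one_or (Perm.sign x) with h | h
  · exact hA (Perm.mem_alternatingGroup.2 h)
  · have : x * flip (r := r) (⟨0, by omega⟩ : Fin k) ∈ alternatingGroup (Pt k r) := by
      rw [Perm.mem_alternatingGroup, map_mul, h, sign_flip, neg_mul_neg, one_mul]
    exact (Subgroup.mul_mem_cancel_right _ hf).1 (hA this)

end NotUnique

/-- Subgroups of odd index of an alternating group of degree at least 5 are pronormal. -/
theorem isPronormal_Pt {k r : ℕ} (hr : r ≤ 1) (h5 : 5 ≤ k * 2 + r)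
    (H : Subgroup (alternatingGroup (Pt k r))) (hH : Odd H.index) : Cfsg.IsPronormal H := by
  obtain ⟨Q, hQ⟩ := exists_good k
  obtain ⟨P, hP⟩ := exists_sylow_eq_evenPre hr hQ
  obtain ⟨S, hS⟩ := exists_sylow_le (p := 2) H (fun h => (Nat.not_even_iff_odd.2 hH) (even_iff_two_dvd.2 h))
  obtain ⟨g, hg⟩ := MulAction.exists_smul_eq (alternatingGroup (Pt k r)) S P
  have key : ∀ K : Subgroup (alternatingGroup (Pt k r)), (P : Subgroup _) ≤ K → Cfsg.IsPronormal K := by
    intro K hK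
    by_cases h3 : 3 ≤ k
    · exact isPronormal_of_normalizer_le P (by
        rw [hP] at hK ⊢
        exact (normalizer_evenPre hr h3 hQ).trans hK)
    have hk2 : k = 2 := by omega
    have hr1 : r = 1 := by omega
    subst hk2 hr1
    have : Nontrivial (Pt 2 1) := ⟨⟨extraPt 2, .inl (0, false), extraPt_ne_inl _⟩⟩
    rw [hP] at hK
    by_cases hKtop : K = ⊤
    · exact isPronormal_of_normalizer_le P (hKtop ▸ le_top)
    have hKst := le_stabilizer_of_ne_top le_rfl hQ ⟨1, rfl⟩ K hK hKtop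
    rcases hK.lt_or_eq with hlt | heq
    · -- then `K` is the stabilizer of the extra point
      have hst : K = MulAction.stabilizer (alternatingGroup (Pt 2 1)) (extraPt 2) := by
        have hcard : Nat.card (alternatingGroup (Pt 2 1)) = 60 := by
          have := two_mul_nat_card_alternatingGroup (α := Pt 2 1)
          rw [Nat.card_perm, Nat.card_eq_fintype_card (α := Pt 2 1), card_Pt] at this
          rw [show Nat.factorial (2 * 2 + 1) = 120 from rfl] at this
          omega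
        have h12 : Nat.card (MulAction.stabilizer (alternatingGroup (Pt 2 1)) (extraPt 2)) = 12 := by
          have htr : MulAction.IsPretransitive (alternatingGroup (Pt 2 1)) (Pt 2 1) :=
            alternatingGroup.isPretransitive_of_three_le_card _ (by simp [Pt])
          have h := MulAction.index_stabilizer_of_transitive (alternatingGroup (Pt 2 1)) (extraPt 2)
          rw [Nat.card_eq_fintype_card, card_Pt] at h
          have h' := Subgroup.card_mul_index (MulAction.stabilizer (alternatingGroup (Pt 2 1)) (extraPt 2))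
          rw [h, hcard] at h'
          omega
        have h4 : Nat.card (evenPre 1 Q) = 4 := by
          rw [← hP, P.card_eq_multiplicity, hcard]
          have : Nat.factorization 60 2 = 2 := by
            rw [show (60 : ℕ) = 2 ^ 2 * 15 by norm_num, Nat.factorization_mul (by norm_num) (by norm_num),
              Finsupp.add_apply, Nat.Prime.factorization_pow Nat.prime_two, Finsupp.single_eq_same,
              Nat.factorization_eq_zero_of_not_dvd (by norm_num)]
          rw [this]; norm_num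
        refine Subgroup.eq_of_le_of_card_ge hKst ?_
        rw [h12]
        have hdvd : 4 ∣ Nat.card K := h4 ▸ Subgroup.card_dvd_of_le hK
        have hdvd' : Nat.card K ∣ 12 := h12 ▸ Subgroup.card_dvd_of_le hKst
        have hgt : 4 < Nat.card K := by
          rw [← h4]
          refine lt_of_le_of_ne (Nat.le_of_dvd Nat.card_pos (Subgroup.card_dvd_of_le hK)) fun e => ?_
          exact hlt.ne (Subgroup.eq_of_le_of_card_ge hK e.ge)
        obtain ⟨c, hc⟩ := hdvd
        rw [hc] at hdvd' hgt ⊢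
        obtain ⟨d, hd⟩ := Nat.dvd_of_mul_dvd_mul_left (by norm_num) (show 4 * c ∣ 4 * 3 from hdvd')
        rcases (Nat.dvd_prime Nat.prime_three).1 ⟨d, hd⟩ with h | h <;> omega
      refine isPronormal_of_normalizer_le P ?_
      rw [hP, hst]
      intro g hg
      by_contra hgf
      obtain ⟨i, b, hib⟩ := (eq_extraPt_or_inl (g.1 (extraPt 2))).resolve_left hgf
      obtain ⟨σ, hσ, hσx⟩ := exists_even_move le_rfl hQ ⟨1, rfl⟩ i i b (!b)
      have hmem : g⁻¹ * ⟨σ, hσ.2⟩ * g ∈ evenPre 1 Q := by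
        have := (Subgroup.mem_normalizer_iff'' (H := evenPre 1 Q)).1 hg ⟨σ, hσ.2⟩
        exact this.1 hσ.1
      have hfix : (g.1⁻¹ * σ * g.1) (extraPt 2) = extraPt 2 := pre_fix_extraPt hmem
      rw [Perm.mul_apply, Perm.mul_apply, hib, hσx, Perm.inv_eq_iff_eq, hib] at hfix
      simp at hfix
    · -- `K` is a Sylow subgroup
      rw [← heq, ← hP]
      intro g
      have hS' : ((g • P : Sylow 2 _) : Subgroup _) = (P : Subgroup _).map (MulAut.conj g).toMonoidHom := rfl
      set K' := (P : Subgroup (alternatingGroup (Pt 2 1))) ⊔ (P : Subgroup _).map (MulAut.conj g).toMonoidHom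
      obtain ⟨x, hx⟩ := MulAction.exists_smul_eq K' (P.subtype (le_sup_left : (P : Subgroup _) ≤ K'))
        ((g • P).subtype (hS' ▸ le_sup_right))
      rw [Sylow.smul_subtype] at hx
      exact ⟨x.1, x.2, congrArg Sylow.toSubgroup (Sylow.subtype_injective hx).symm⟩
  have hkey : Cfsg.IsPronormal (H.map (MulAut.conj g).toMonoidHom) := key _ (by
    rw [← hg]; exact Subgroup.map_mono hS)
  have := isPronormal_map (MulAut.conj g).symm hkey
  rwa [Subgroup.map_map, show ((MulAut.conj g).symm.toMonoidHom).comp (MulAut.conj g).toMonoidHom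
    = MonoidHom.id _ by ext x; simp, Subgroup.map_id] at this

/-- The point equivalence used for `Fin n`. -/
noncomputable def equivFin (n : ℕ) : Pt (n / 2) (n % 2) ≃ Fin n :=
  Fintype.equivOfCardEq (by simp [Pt]; omega)

theorem isPronormal_alternating (n : ℕ) (hn : 5 ≤ n) (H : Subgroup (alternatingGroup (Fin n)))
    (hH : Odd H.index) : Cfsg.IsPronormal H := by
  set e := (equivFin n).altCongrHom
  have h := isPronormal_Pt (k := n / 2) (r := n % 2) (by omega) (by omega) (H.map e.symm.toMonoidHom)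
    (by rwa [Subgroup.index_map_of_bijective e.symm.bijective])
  have := isPronormal_map e h
  rwa [Subgroup.map_map, show e.toMonoidHom.comp e.symm.toMonoidHom = MonoidHom.id _ by ext x; simp,
    Subgroup.map_id] at this

theorem uniqueMax_iff (n : ℕ) (hn : 5 ≤ n) (h6 : n ≠ 6) :
    (∀ R : Sylow 2 (alternatingGroup (Fin n)),
      UniqueMax (R : Subgroup (alternatingGroup (Fin n))) ↔ ∃ l : ℕ, 2 ≤ l ∧ n = 2 ^ l + 1) ∧
    (∀ R : Sylow 2 (Perm (Fin n)),
      UniqueMax (R : Subgroup (Perm (Fin n))) ↔ ∃ l : ℕ, 2 ≤ l ∧ n = 2 ^ l + 1) := by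
  obtain ⟨Q, hQ⟩ := exists_good (n / 2)
  obtain ⟨P, hP⟩ := exists_sylow_eq_evenPre (r := n % 2) (by omega) hQ
  obtain ⟨P', hP'⟩ := exists_sylow_eq_pre (r := n % 2) (by omega) hQ
  have hcond : (∃ l : ℕ, 2 ≤ l ∧ n = 2 ^ l + 1) ↔ n % 2 = 1 ∧ ∃ l, n / 2 = 2 ^ l := by
    constructor
    · rintro ⟨l, hl, rfl⟩
      obtain ⟨m, rfl⟩ : ∃ m, l = m + 1 := ⟨l - 1, by omega⟩
      rw [pow_succ]
      exact ⟨by omega, m, by omega⟩
    · rintro ⟨h1, l, hl⟩
      refine ⟨l + 1, ?_, by rw [pow_succ]; omega⟩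
      rcases l with _ | l
      · simp at hl; omega
      · omega
  have key : (UniqueMax (P.toSubgroup) ↔ n % 2 = 1 ∧ ∃ l, n / 2 = 2 ^ l) ∧
      (UniqueMax (P'.toSubgroup) ↔ n % 2 = 1 ∧ ∃ l, n / 2 = 2 ^ l) := by
    rw [hP, hP']
    by_cases hc : n % 2 = 1 ∧ ∃ l, n / 2 = 2 ^ l
    · obtain ⟨hc1, hc2⟩ := hc
      have aux : ∀ r : ℕ, r = 1 → UniqueMax (evenPre r Q) ∧ UniqueMax (pre r Q) := by
        rintro r rfl
        exact ⟨uniqueMax_evenPre (by omega) hQ hc2, uniqueMax_pre (by omega) hQ hc2⟩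
      exact ⟨iff_of_true (aux _ hc1).1 ⟨hc1, hc2⟩, iff_of_true (aux _ hc1).2 ⟨hc1, hc2⟩⟩
    · have hk3 : 3 ≤ n / 2 := by
        by_contra hlt
        exact hc ⟨by omega, 1, by omega⟩
      exact ⟨iff_of_false (not_uniqueMax_evenPre hk3 (by omega) hQ hc) hc,
        iff_of_false (not_uniqueMax_pre hk3 (by omega) hQ hc) hc⟩
  exact ⟨fun R => by rw [forall_sylow_uniqueMax (equivFin n).altCongrHom P R, key.1, hcond],
    fun R => by rw [forall_sylow_uniqueMax (equivFin n).permCongrHom P' R, key.2, hcond]⟩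

end Cfsg.Agent.AltSylow
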