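import Cfsg.Agent.AltSylow.Sylow
import Cfsg.Agent.AltSylow.Blocks

/-!
Degree `2k+1` with `k` a power of two: an overgroup of a Sylow 2-subgroup fixes the extra point or
contains the alternating group.
-/

set_option autoImplicit false

namespace Cfsg.Agent.AltSylow

open Equiv
open scoped Pointwise

/-- The extra point. -/
def extraPt (k : ℕ) : Pt k 1 := .inr 0

theorem commute_swap_swap {α : Type*} [DecidableEq α] {a b c d : α} (hac : a ≠ c) (had : a ≠ d) (hbc : b ≠ c)
    (hbd : b ≠ d) : Commute (swap a b) (swap c d) := by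
  apply Perm.Disjoint.commute
  intro z
  by_cases h : z = a ∨ z = b
  · right
    rcases h with rfl | rfl
    · exact swap_apply_of_ne_of_ne hac had
    · exact swap_apply_of_ne_of_ne hbc hbd
  · left
    push Not at h
    exact swap_apply_of_ne_of_ne h.1 h.2

/-- Two double transpositions sharing exactly one point generate a 3-cycle. -/
theorem isThreeCycle_sq_of_shared_point {α : Type*} [Fintype α] [DecidableEq α] {a x x' y z w w' : α}
    (hax : a ≠ x) (hax' : a ≠ x') (hay : a ≠ y) (haz : a ≠ z) (haw : a ≠ w) (haw' : a ≠ w') (hxx' : x ≠ x')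
    (hxy : x ≠ y) (hxz : x ≠ z) (hxw : x ≠ w) (hxw' : x ≠ w') (hx'y : x' ≠ y) (hx'z : x' ≠ z)
    (hx'w : x' ≠ w) (hx'w' : x' ≠ w') (hyw : y ≠ w) (hyw' : y ≠ w') (hzw : z ≠ w) (hzw' : z ≠ w') :
    Perm.IsThreeCycle ((swap a x * swap y z) * (swap x x' * swap w w') *
      ((swap a x * swap y z) * (swap x x' * swap w w'))) := by
  have h1 : Commute (swap y z) (swap x x') := commute_swap_swap hxy.symm hx'y.symm hxz.symm hx'z.symm
  have h2 : Commute (swap y z) (swap w w') := commute_swap_swap hyw hyw' hzw hzw'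
  have h3 : Commute (swap a x) (swap w w') := commute_swap_swap haw haw' hxw hxw'
  have h4 : Commute (swap x x') (swap w w') := commute_swap_swap hxw hxw' hx'w hx'w'
  have h5 : Commute (swap a x) (swap y z) := commute_swap_swap hay haz hxy hxz
  have hre : (swap a x * swap y z) * (swap x x' * swap w w') =
      (swap a x * swap x x') * (swap y z * swap w w') := by
    rw [mul_assoc, ← mul_assoc (swap y z), h1.eq, mul_assoc, mul_assoc]
  have hcom : Commute (swap a x * swap x x') (swap y z * swap w w') :=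
    ((h5.mul_right h3).mul_left (h1.symm.mul_right h4))
  have hsq : swap y z * swap w w' * (swap y z * swap w w') = 1 := by
    rw [h2.symm.mul_mul_mul_comm, swap_mul_self, swap_mul_self, one_mul]
  rw [hre, hcom.symm.mul_mul_mul_comm, hsq, mul_one]
  refine Perm.IsThreeCycle.isThreeCycle_sq ?_
  rw [Equiv.swap_comm a x]
  exact Perm.isThreeCycle_swap_mul_swap_same hax.symm hxx' hax'

section
variable {k : ℕ}

theorem extraPt_ne_inl (p : Fin k × Bool) : extraPt k ≠ .inl p := by simp [extraPt]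

theorem eq_extraPt_or_inl (x : Pt k 1) : x = extraPt k ∨ ∃ i b, x = .inl (i, b) := by
  rcases x with ⟨i, b⟩ | u
  · exact Or.inr ⟨i, b, rfl⟩
  · exact Or.inl (congrArg Sum.inr (Subsingleton.elim u 0))

theorem pre_fix_extraPt {Q : Subgroup (Perm (Fin k))} {σ : Perm (Pt k 1)} (hσ : σ ∈ pre 1 Q) :
    σ (extraPt k) = extraPt k := by
  obtain ⟨τ, -, h⟩ := hσ
  rcases eq_extraPt_or_inl (σ (extraPt k)) with h' | ⟨i, b, h'⟩
  · exact h'
  · have := h (extraPt k)
    rw [h'] at this
    simp [proj, extraPt] at this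

variable (hk : 2 ≤ k) {Q : Subgroup (Perm (Fin k))} (hQ : Good Q) (hpow : ∃ l, k = 2 ^ l)
include hk hQ hpow

/-- The even part of `pre 1 Q` is transitive on the paired points. -/
theorem exists_even_move (i j : Fin k) (b b' : Bool) :
    ∃ σ ∈ pre 1 Q ⊓ alternatingGroup (Pt k 1), σ (.inl (i, b)) = .inl (j, b') := by
  obtain ⟨q, hq, hqi⟩ := hQ.2.2.2 (by simpa using hpow) i j
  by_cases hb : b = b'
  · exact ⟨lift 1 q, ⟨lift_mem_pre hq, lift_mem_alt q⟩, by rw [lift_inl, hqi, hb]⟩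
  · obtain ⟨l, hl⟩ := Fintype.exists_ne_of_one_lt_card (by simp; omega) j
    refine ⟨flip l * flip j * lift 1 q,
      ⟨mul_mem (mul_mem (flip_mem_pre l) (flip_mem_pre j)) (lift_mem_pre hq),
        mul_mem (flip_mul_flip_mem_alt l j) (lift_mem_alt q)⟩, ?_⟩
    rw [Perm.mul_apply, Perm.mul_apply, lift_inl, hqi, flip_apply_self,
      flip_apply_ne l (by simp [proj, hl.symm])]
    cases b <;> cases b' <;> simp_all

/-- An overgroup of the even part moving the extra point is primitive. -/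
theorem isPreprimitive_of_moves {M : Subgroup (Perm (Pt k 1))}
    (hT : pre 1 Q ⊓ alternatingGroup (Pt k 1) ≤ M) {m : Perm (Pt k 1)} (hm : m ∈ M)
    (hmf : m (extraPt k) ≠ extraPt k) :
    MulAction.IsPretransitive M (Pt k 1) ∧ MulAction.IsPreprimitive M (Pt k 1) := by
  obtain ⟨i0, b0, h0⟩ : ∃ i b, m (extraPt k) = .inl (i, b) := (eq_extraPt_or_inl _).resolve_left hmf
  have hreach : ∀ x, ∃ g ∈ M, g (extraPt k) = x := by
    intro x
    rcases eq_extraPt_or_inl x with rfl | ⟨j, b, rfl⟩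
    · exact ⟨1, one_mem _, rfl⟩
    · obtain ⟨σ, hσ, hσx⟩ := exists_even_move hk hQ hpow i0 j b0 b
      exact ⟨σ * m, mul_mem (hT hσ) hm, by rw [Perm.mul_apply, h0, hσx]⟩
  have htr : MulAction.IsPretransitive M (Pt k 1) := by
    refine ⟨fun a b => ?_⟩
    obtain ⟨g, hg, hga⟩ := hreach a
    obtain ⟨g', hg', hgb⟩ := hreach b
    refine ⟨⟨g' * g⁻¹, mul_mem hg' (inv_mem hg)⟩, ?_⟩
    show (g' * g⁻¹) a = b
    rw [← hga]; simpa using hgb
  refine ⟨htr, MulAction.IsPreprimitive.of_isTrivialBlock_base (extraPt k) fun {B} hB0 hB => ?_⟩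
  by_cases hsub : B.Subsingleton
  · exact Or.inl hsub
  refine Or.inr (Set.eq_univ_of_forall fun x => ?_)
  obtain ⟨y, hyB, hy0⟩ : ∃ y ∈ B, y ≠ extraPt k := by
    by_contra hcon
    push Not at hcon
    exact hsub fun a ha b hb => (hcon a ha).trans (hcon b hb).symm
  obtain ⟨i, b, rfl⟩ := (eq_extraPt_or_inl y).resolve_left hy0
  rcases eq_extraPt_or_inl x with rfl | ⟨j, b', rfl⟩
  · exact hB0
  obtain ⟨σ, hσ, hσx⟩ := exists_even_move hk hQ hpow i j b b'
  have hfix := pre_fix_extraPt hσ.1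
  have hsm := smul_block_eq hB (g := (⟨σ, hT hσ⟩ : M)) hB0 (by
    show σ (extraPt k) ∈ B
    rw [hfix]; exact hB0)
  rw [← hsm]
  exact ⟨_, hyB, hσx⟩

theorem threeCycle_or_card (M : Subgroup (Perm (Pt k 1)))
    (hT : pre 1 Q ⊓ alternatingGroup (Pt k 1) ≤ M) {m : Perm (Pt k 1)} (hm : m ∈ M)
    (hmf : m (extraPt k) ≠ extraPt k) (hk4 : 4 ≤ k) : alternatingGroup (Pt k 1) ≤ M := by
  classical
  obtain ⟨htr, hprim⟩ := isPreprimitive_of_moves hk hQ hpow hT hm hmf
  let i0 : Fin k := ⟨0, by omega⟩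
  let i1 : Fin k := ⟨1, by omega⟩
  have h01 : i0 ≠ i1 := by simp [i0, i1, Fin.ext_iff]
  obtain ⟨⟨g, hg⟩, hgx⟩ := MulAction.exists_smul_eq M (Sum.inl (i0, false) : Pt k 1) (extraPt k)
  have hgx' : g (.inl (i0, false)) = extraPt k := hgx
  have hpair : ∀ i j : Fin k, flip i * flip j ∈ M := fun i j =>
    hT ⟨mul_mem (flip_mem_pre i) (flip_mem_pre j), flip_mul_flip_mem_alt i j⟩
  have hne : ∀ p, p ≠ (i0, false) → ∃ i b, g (.inl p) = .inl (i, b) := by
    intro p hp
    refine (eq_extraPt_or_inl _).resolve_left fun h => hp ?_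
    have := g.injective (h.trans hgx'.symm)
    simpa using this
  obtain ⟨ix, bx, hx⟩ := hne (i0, true) (by simp)
  obtain ⟨iy, by', hy⟩ := hne (i1, false) (by simp [h01.symm])
  obtain ⟨iz, bz, hz⟩ := hne (i1, true) (by simp [h01.symm])
  have hD : swap (extraPt k) (.inl (ix, bx)) * swap (.inl (iy, by')) (.inl (iz, bz)) ∈ M := by
    have h := mul_mem (mul_mem hg (hpair i0 i1)) (inv_mem hg)
    have e : g * (flip i0 * flip i1) * g⁻¹ = (g * flip i0 * g⁻¹) * (g * flip i1 * g⁻¹) := by group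
    rw [e, flip, flip, ← Equiv.swap_apply_apply, ← Equiv.swap_apply_apply, hgx', hx, hy, hz] at h
    exact h
  have hxy : (Sum.inl (ix, bx) : Pt k 1) ≠ .inl (iy, by') := fun h => by
    have := g.injective ((hx.trans h).trans hy.symm); simp [h01] at this
  have hxz : (Sum.inl (ix, bx) : Pt k 1) ≠ .inl (iz, bz) := fun h => by
    have := g.injective ((hx.trans h).trans hz.symm); simp [h01] at this
  have hyz : (Sum.inl (iy, by') : Pt k 1) ≠ .inl (iz, bz) := fun h => by
    have := g.injective ((hy.trans h).trans hz.symm); simp at this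
  obtain ⟨w, -, hw⟩ := Finset.exists_mem_notMem_of_card_lt_card
    (s := ({ix, iy, iz} : Finset (Fin k))) (t := Finset.univ)
    (lt_of_le_of_lt Finset.card_le_three (by simp; omega))
  simp at hw
  obtain ⟨hwx, hwy, hwz⟩ := hw
  have main : ∀ (a x y z : Pt k 1) (i : Fin k) (b : Bool), x = .inl (i, b) →
      swap a x * swap y z ∈ M → a ≠ x → a ≠ y → a ≠ z → x ≠ y → x ≠ z → proj a ≠ some i →
      proj y ≠ some i → proj z ≠ some i → w ≠ i → proj a ≠ some w → proj y ≠ some w → proj z ≠ some w →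
      alternatingGroup (Pt k 1) ≤ M := by
    intro a x y z i b hxe hD' hax hay haz hxy' hxz' hai hyi hzi hwi hwa hwy' hwz'
    subst hxe
    have hE : swap (Sum.inl (i, b) : Pt k 1) (.inl (i, !b)) * swap (.inl (w, false)) (.inl (w, true)) ∈ M := by
      have := hpair i w
      cases b
      · exact this
      · rw [Equiv.swap_comm]; exact this
    have hfar : ∀ (v : Pt k 1) (j : Fin k) (c : Bool), proj v ≠ some j → v ≠ .inl (j, c) :=
      fun v j c h h' => h (h' ▸ rfl)
    refine Perm.alternatingGroup_le_of_isPreprimitive_of_isThreeCycle_mem hprim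
      (isThreeCycle_sq_of_shared_point hax (hfar _ _ _ hai) hay haz (hfar _ _ _ hwa) (hfar _ _ _ hwa)
        (by cases b <;> simp) hxy' hxz' (by simp [Ne.symm hwi]) (by simp [Ne.symm hwi])
        (hfar _ _ _ hyi).symm (hfar _ _ _ hzi).symm (by simp [Ne.symm hwi]) (by simp [Ne.symm hwi])
        (hfar _ _ _ hwy') (hfar _ _ _ hwy') (hfar _ _ _ hwz') (hfar _ _ _ hwz')) (mul_mem (mul_mem hD' hE) (mul_mem hD' hE))
  have hpf : ∀ i : Fin k, proj (extraPt k) ≠ some i := fun i => by simp [proj, extraPt]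
  have hpi : ∀ {i j : Fin k} {b : Bool}, i ≠ j → proj (Sum.inl (i, b) : Pt k 1) ≠ some j :=
    fun h => by simp [proj, h]
  by_cases h1 : ix = iy
  · have h2 : iz ≠ ix := by
      intro h2; subst h1; subst h2
      have e1 : bx ≠ by' := fun h => hxy (by rw [h])
      have e2 : bx ≠ bz := fun h => hxz (by rw [h])
      have e3 : by' ≠ bz := fun h => hyz (by rw [h])
      have hb : ∀ a b c : Bool, a ≠ b → a ≠ c → b ≠ c → False := by decide
      exact hb _ _ _ e1 e2 e3
    refine main (.inl (iy, by')) (.inl (iz, bz)) (extraPt k) (.inl (ix, bx)) iz bz rfl ?_ hyz ?_ hxy.symm ?_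
      hxz.symm ?_ ?_ ?_ hwz ?_ ?_ ?_
    · have hc : Commute (swap (extraPt k) (.inl (ix, bx))) (swap (.inl (iy, by')) (.inl (iz, bz))) :=
        commute_swap_swap (extraPt_ne_inl _) (extraPt_ne_inl _) hxy hxz
      rw [← hc.eq]; exact hD
    · exact (extraPt_ne_inl _).symm
    · exact (extraPt_ne_inl _).symm
    · exact hpi (h1 ▸ h2.symm)
    · exact hpf _
    · exact hpi h2.symm
    · exact hpi (Ne.symm hwy)
    · exact hpf _
    · exact hpi (Ne.symm hwx)
  by_cases h2 : ix = iz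
  · refine main (.inl (iz, bz)) (.inl (iy, by')) (extraPt k) (.inl (ix, bx)) iy by' rfl ?_ hyz.symm ?_ hxz.symm ?_
      hxy.symm ?_ ?_ ?_ hwy ?_ ?_ ?_
    · have hc : Commute (swap (extraPt k) (.inl (ix, bx))) (swap (.inl (iy, by')) (.inl (iz, bz))) :=
        commute_swap_swap (extraPt_ne_inl _) (extraPt_ne_inl _) hxy hxz
      rw [Equiv.swap_comm (Sum.inl (iz, bz)), ← hc.eq]; exact hD
    · exact (extraPt_ne_inl _).symm
    · exact (extraPt_ne_inl _).symm
    · exact hpi (fun h => h1 (h2.trans h))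
    · exact hpf _
    · exact hpi h1
    · exact hpi (Ne.symm hwz)
    · exact hpf _
    · exact hpi (Ne.symm hwx)
  refine main (extraPt k) (.inl (ix, bx)) (.inl (iy, by')) (.inl (iz, bz)) ix bx rfl hD (extraPt_ne_inl _)
    (extraPt_ne_inl _) (extraPt_ne_inl _) hxy hxz ?_ ?_ ?_ hwx ?_ ?_ ?_
  · exact hpf _
  · exact hpi (Ne.symm h1)
  · exact hpi (Ne.symm h2)
  · exact hpf _
  · exact hpi (Ne.symm hwy)
  · exact hpi (Ne.symm hwz)

end

end Cfsg.Agent.AltSylow
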