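import Cfsg.Agent.AltSylow.Tower
import Cfsg.Prelude.Def_HallClasses

/-!
The Sylow 2-subgroups of `Perm (Pt k r)` and of the alternating group on `Pt k r`; pronormality from
self-normalizing Sylow subgroups.
-/

set_option autoImplicit false

namespace Cfsg.Agent.AltSylow

open Equiv

theorem eq_of_isPGroup_le {G : Type*} [Group G] [Finite G] {p : ℕ} [Fact p.Prime] {P R : Subgroup G}
    (hn : SelfNorm P) (hR : IsPGroup p R) (hPR : P ≤ R) : R = P := by
  refine le_antisymm ?_ hPR
  have hnil : Group.IsNilpotent R := hR.isNilpotent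
  have hnc := normalizerCondition_iff_only_full_group_self_normalizing.1
    (Group.normalizerCondition_of_isNilpotent (G := R)) (P.subgroupOf R)
  have hself : Subgroup.normalizer ((P.subgroupOf R : Subgroup R) : Set R) = P.subgroupOf R := by
    refine le_antisymm (fun g hg => ?_) Subgroup.le_normalizer
    rw [Subgroup.mem_subgroupOf]
    refine hn g fun x => ?_
    constructor
    · intro hx
      exact (Subgroup.mem_normalizer_iff.1 hg ⟨x, hPR hx⟩).1 hx
    · intro hx
      have hxR : x ∈ R := by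
        have := mul_mem (mul_mem (inv_mem g.2) (hPR hx)) g.2
        simpa [mul_assoc] using this
      exact (Subgroup.mem_normalizer_iff.1 hg ⟨x, hxR⟩).2 hx
  intro x hx
  have : (⟨x, hx⟩ : R) ∈ P.subgroupOf R := hnc hself ▸ Subgroup.mem_top _
  exact this

/-- `pre r Q` as a Sylow 2-subgroup. -/
theorem exists_sylow_eq_pre {k r : ℕ} (hr : r ≤ 1) {Q : Subgroup (Perm (Fin k))} (hQ : Good Q) :
    ∃ P : Sylow 2 (Perm (Pt k r)), (P : Subgroup (Perm (Pt k r))) = pre r Q :=
  ⟨⟨pre r Q, isPGroup_pre hr hQ.1, fun hR hle => eq_of_isPGroup_le (selfNorm_pre hr hQ.2.1) hR hle⟩, rfl⟩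

/-- The even part of `pre r Q`, inside the alternating group. -/
def evenPre {k : ℕ} (r : ℕ) (Q : Subgroup (Perm (Fin k))) : Subgroup (alternatingGroup (Pt k r)) :=
  (pre r Q).subgroupOf (alternatingGroup (Pt k r))

theorem exists_sylow_eq_evenPre {k r : ℕ} (hr : r ≤ 1) {Q : Subgroup (Perm (Fin k))} (hQ : Good Q) :
    ∃ P : Sylow 2 (alternatingGroup (Pt k r)),
      (P : Subgroup (alternatingGroup (Pt k r))) = evenPre r Q := by
  obtain ⟨P, hP⟩ := exists_sylow_eq_pre hr hQ
  have hT : IsPGroup 2 (evenPre r Q) :=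
    (isPGroup_pre hr hQ.1).comap_of_injective (alternatingGroup (Pt k r)).subtype Subtype.val_injective
  obtain ⟨R, hR⟩ := hT.exists_le_sylow
  refine ⟨R, ?_⟩
  obtain ⟨P', hP'⟩ := (R.2.map (alternatingGroup (Pt k r)).subtype).exists_le_sylow
  obtain ⟨g, hg⟩ := MulAction.exists_smul_eq (Perm (Pt k r)) P' P
  have hmap : ∀ x : alternatingGroup (Pt k r), x ∈ (R : Subgroup (alternatingGroup (Pt k r))) →
      g * x.1 * g⁻¹ ∈ pre r Q := by
    intro x hx
    rw [← hP, ← hg]
    exact ⟨x.1, hP' ⟨x, hx, rfl⟩, rfl⟩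
  have hcard : Nat.card R ≤ Nat.card (evenPre r Q) := by
    refine Nat.card_le_card_of_injective
      (fun x : R => (⟨⟨g * x.1.1 * g⁻¹, ?_⟩, hmap x.1 x.2⟩ : evenPre r Q)) ?_
    · exact (alternatingGroup.normal).conj_mem _ x.1.2 g
    · intro x y h
      have h2 : g * x.1.1 * g⁻¹ = g * y.1.1 * g⁻¹ := congrArg (fun z : evenPre r Q => z.1.1) h
      exact Subtype.ext (Subtype.ext (mul_left_cancel (mul_right_cancel h2)))
  exact (Subgroup.eq_of_le_of_card_ge hR hcard).symm

theorem normalizer_evenPre {k r : ℕ} (hr : r ≤ 1) (hk : 3 ≤ k) {Q : Subgroup (Perm (Fin k))} (hQ : Good Q) :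
    Subgroup.normalizer ((evenPre r Q : Subgroup (alternatingGroup (Pt k r))) : Set (alternatingGroup (Pt k r)))
      ≤ evenPre r Q := by
  intro g hg
  refine mem_pre_of_normalizes_even hr hk hQ.2.1 g.1 fun x => ?_
  have h := Subgroup.mem_normalizer_iff.1 hg
  have hn := alternatingGroup.normal (α := Pt k r)
  constructor
  · rintro ⟨h1, h2⟩
    exact ⟨(h ⟨x, h2⟩).1 h1, hn.conj_mem _ h2 g.1⟩
  · rintro ⟨h1, h2⟩
    have hx : x ∈ alternatingGroup (Pt k r) := by
      simpa [mul_assoc] using hn.conj_mem _ h2 g.1⁻¹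
    exact ⟨(h ⟨x, hx⟩).2 h1, hx⟩

/-! ### Pronormality -/

/-- A subgroup containing a Sylow subgroup together with its normalizer is pronormal. -/
theorem isPronormal_of_normalizer_le {G : Type*} [Group G] [Finite G] {p : ℕ} [Fact p.Prime] (S : Sylow p G)
    {H : Subgroup G} (hH : Subgroup.normalizer ((S : Subgroup G) : Set G) ≤ H) : Cfsg.IsPronormal H := by
  intro g
  set H' := H.map (MulAut.conj g).toMonoidHom with hH'
  set K := H ⊔ H' with hK
  have hSH : (S : Subgroup G) ≤ H := Subgroup.le_normalizer.trans hH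
  have h1 : (S : Subgroup G) ≤ K := hSH.trans le_sup_left
  have h2 : ((g • S : Sylow p G) : Subgroup G) ≤ K :=
    le_trans (Subgroup.map_mono hSH) le_sup_right
  obtain ⟨x, hx⟩ := MulAction.exists_smul_eq K ((g • S).subtype h2) (S.subtype h1)
  rw [Sylow.smul_subtype] at hx
  have hx' : x • (g • S) = S := Sylow.subtype_injective hx
  refine ⟨(x : G)⁻¹, inv_mem x.2, ?_⟩
  have hn : (x : G) * g ∈ Subgroup.normalizer ((S : Subgroup G) : Set G) := by
    refine (Sylow.smul_eq_iff_mem_normalizer (P := S)).1 ?_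
    rw [mul_smul]
    exact hx'
  have hxg := hH hn
  have : H.map (MulAut.conj ((x : G) * g)).toMonoidHom = H := by
    ext y
    simp only [Subgroup.mem_map, MulEquiv.coe_toMonoidHom, MulAut.conj_apply]
    constructor
    · rintro ⟨z, hz, rfl⟩; exact mul_mem (mul_mem hxg hz) (inv_mem hxg)
    · intro hy
      exact ⟨((x : G) * g)⁻¹ * y * ((x : G) * g), mul_mem (mul_mem (inv_mem hxg) hy) hxg, by group⟩
  conv_rhs => rw [← this]
  rw [hH', Subgroup.map_map]
  congr 1
  ext y
  simp only [MulEquiv.coe_toMonoidHom, MonoidHom.comp_apply, MulAut.conj_apply]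
  group

/-- A subgroup of index prime to `p` contains a Sylow `p`-subgroup. -/
theorem exists_sylow_le {G : Type*} [Group G] [Finite G] {p : ℕ} [Fact p.Prime] (H : Subgroup G)
    (hH : ¬ p ∣ H.index) : ∃ S : Sylow p G, (S : Subgroup G) ≤ H := by
  obtain ⟨P⟩ : Nonempty (Sylow p H) := inferInstance
  have hp : IsPGroup p ((P : Subgroup H).map H.subtype) := P.2.map _
  obtain ⟨S, hS⟩ := hp.exists_le_sylow
  refine ⟨S, ?_⟩
  have hle : Nat.card S ≤ Nat.card ((P : Subgroup H).map H.subtype) := by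
    rw [Nat.card_congr (Subgroup.equivMapOfInjective _ H.subtype Subtype.val_injective).toEquiv.symm,
      S.card_eq_multiplicity, P.card_eq_multiplicity]
    refine Nat.pow_le_pow_right (Nat.Prime.pos Fact.out) ?_
    rw [← Subgroup.card_mul_index H, Nat.factorization_mul Nat.card_pos.ne' Subgroup.index_ne_zero_of_finite,
      Finsupp.add_apply, Nat.factorization_eq_zero_of_not_dvd hH, add_zero]
  rw [← Subgroup.eq_of_le_of_card_ge hS hle]
  exact Subgroup.map_subtype_le _

theorem isPronormal_map {G G' : Type*} [Group G] [Group G'] (e : G ≃* G') {H : Subgroup G}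
    (h : Cfsg.IsPronormal H) : Cfsg.IsPronormal (H.map e.toMonoidHom) := by
  intro g'
  obtain ⟨g, rfl⟩ := e.surjective g'
  obtain ⟨x, hx, hxe⟩ := h g
  have hc : ∀ a : G, (H.map e.toMonoidHom).map (MulAut.conj (e a)).toMonoidHom
      = (H.map (MulAut.conj a).toMonoidHom).map e.toMonoidHom := by
    intro a
    rw [Subgroup.map_map, Subgroup.map_map]
    congr 1
    ext y
    simp
  refine ⟨e x, ?_, ?_⟩
  · rw [hc, ← Subgroup.map_sup]
    exact ⟨x, hx, rfl⟩
  · rw [hc, hc, hxe]

end Cfsg.Agent.AltSylow
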