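import Cfsg.Agent.AltSylow.Basic

/-!
Recursive construction of a Sylow 2-subgroup of a symmetric group, with an invariant partition into
two parts and transitivity at powers of two.
-/

set_option autoImplicit false

namespace Cfsg.Agent.AltSylow

open Equiv

/-- Permutations preserving the partition `{S, Sᶜ}`. -/
def partStab {α : Type*} (S : Finset α) : Subgroup (Perm α) where
  carrier := {σ | ∀ x y, ((σ x ∈ S ↔ σ y ∈ S) ↔ (x ∈ S ↔ y ∈ S))}
  mul_mem' := by
    intro a b ha hb x y
    exact (ha (b x) (b y)).trans (hb x y)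
  one_mem' := fun x y => Iff.rfl
  inv_mem' := by
    intro a ha x y
    have := ha (a⁻¹ x) (a⁻¹ y)
    simp only [Perm.coe_inv, Equiv.apply_symm_apply] at this
    exact this.symm

theorem mem_partStab {α : Type*} {S : Finset α} {σ : Perm α} :
    σ ∈ partStab S ↔ ∀ x y, ((σ x ∈ S ↔ σ y ∈ S) ↔ (x ∈ S ↔ y ∈ S)) := Iff.rfl

theorem partStab_strict {α : Type*} [Fintype α] [DecidableEq α] {S : Finset α} (hlt : Sᶜ.card < S.card)
    {σ : Perm α} (hσ : σ ∈ partStab S) (x : α) : σ x ∈ S ↔ x ∈ S := by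
  obtain ⟨x0, hx0⟩ : S.Nonempty := Finset.card_pos.1 (by omega)
  by_cases h0 : σ x0 ∈ S
  · have := hσ x x0
    tauto
  · exfalso
    have hsub : S.image σ ⊆ Sᶜ := by
      intro y hy
      obtain ⟨z, hz, rfl⟩ := Finset.mem_image.1 hy
      have := hσ z x0
      rw [Finset.mem_compl]
      tauto
    have h1 := Finset.card_le_card hsub
    rw [Finset.card_image_of_injective _ σ.injective] at h1
    omega

/-- The properties carried through the recursion. -/
def Good {α : Type*} [Fintype α] [DecidableEq α] (Q : Subgroup (Perm α)) : Prop :=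
  IsPGroup 2 Q ∧ SelfNorm Q ∧
    (2 ≤ Fintype.card α → ∃ S : Finset α, S.Nonempty ∧ Sᶜ.Nonempty ∧ Sᶜ.card ≤ S.card ∧
      ((¬ ∃ l, Fintype.card α = 2 ^ l) → Sᶜ.card < S.card) ∧ Q ≤ partStab S) ∧
    ((∃ l, Fintype.card α = 2 ^ l) → ∀ x y : α, ∃ σ ∈ Q, σ x = y)

theorem good_transport {α β : Type*} [Fintype α] [DecidableEq α] [Fintype β] [DecidableEq β] (e : α ≃ β)
    {Q : Subgroup (Perm α)} (h : Good Q) : Good (Q.comap e.symm.permCongrHom.toMonoidHom) := by
  obtain ⟨hp, hn, hS, htr⟩ := h
  have hc : Fintype.card α = Fintype.card β := Fintype.card_congr e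
  refine ⟨hp.comap_of_injective _ e.symm.permCongrHom.injective, ?_, ?_, ?_⟩
  · intro g hg
    refine hn _ fun x => ?_
    obtain ⟨y, rfl⟩ := e.symm.permCongrHom.surjective x
    have := hg y
    simp only [Subgroup.mem_comap, MulEquiv.coe_toMonoidHom, map_mul, map_inv] at this
    exact this
  · intro h2
    obtain ⟨S, h1, h1', h3, h4, h5⟩ := hS (hc ▸ h2)
    refine ⟨S.map e.toEmbedding, h1.map, ?_, ?_, ?_, ?_⟩
    · obtain ⟨x, hx⟩ := h1'
      exact ⟨e x, by simpa using hx⟩
    · simpa [Finset.card_compl, hc] using h3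
    · intro hl
      simpa [Finset.card_compl, hc] using h4 (by rwa [hc])
    · intro σ hσ x y
      have := h5 hσ (e.symm x) (e.symm y)
      simpa [Finset.mem_map_equiv, Equiv.permCongr_apply] using this
  · intro hl x y
    obtain ⟨σ, hσ, hxy⟩ := htr (hc ▸ hl) (e.symm x) (e.symm y)
    refine ⟨e.permCongr σ, ?_, by simp [hxy]⟩
    show e.symm.permCongr (e.permCongr σ) ∈ Q
    convert hσ
    ext z; simp

theorem exists_pow_two_pair {k r : ℕ} (hk : 1 ≤ k) (hr : r ≤ 1) :
    (∃ l, k * 2 + r = 2 ^ l) ↔ r = 0 ∧ ∃ l, k = 2 ^ l := by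
  constructor
  · rintro ⟨l, hl⟩
    rcases l with _ | l
    · simp at hl; omega
    · rw [pow_succ] at hl
      exact ⟨by omega, l, by omega⟩
  · rintro ⟨rfl, l, rfl⟩
    exact ⟨l + 1, by rw [pow_succ, add_zero]⟩

theorem good_pre {k r : ℕ} (hk : 1 ≤ k) (hr : r ≤ 1) {Q : Subgroup (Perm (Fin k))} (hQ : Good Q) :
    Good (pre r Q) := by
  obtain ⟨hp, hn, hS, htr⟩ := hQ
  have hcard : Fintype.card (Pt k r) = k * 2 + r := by simp [Pt]
  refine ⟨isPGroup_pre hr hp, selfNorm_pre hr hn, fun _ => ?_, ?_⟩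
  · simp only [Fintype.card_fin] at hS htr
    by_cases hk2 : r = 1 ∧ ∃ l, k = 2 ^ l
    · -- all pairs against the extra point
      obtain ⟨rfl, -⟩ := hk2
      let S : Finset (Pt k 1) := Finset.univ.filter fun x => (proj x).isSome
      have hS0 : ∀ x, x ∈ S ↔ (proj x).isSome = true := fun x => by simp [S]
      have hS1 : Sᶜ = {Sum.inr 0} := by
        ext x; rcases x with p | u
        · simp [hS0, proj]
        · simp [hS0, proj, Subsingleton.elim u 0]
      have hsc : Sᶜ.card < S.card := by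
        have h1 := Finset.card_add_card_compl S
        rw [hcard] at h1
        rw [hS1, Finset.card_singleton] at h1 ⊢
        omega
      refine ⟨S, ⟨.inl (⟨0, hk⟩, false), by simp [hS0, proj]⟩, by rw [hS1]; simp, hsc.le, fun _ => hsc,
        fun σ ⟨τ, _, hσ⟩ x y => ?_⟩
      simp only [hS0, hσ x, hσ y, Option.isSome_map]
    by_cases hk1 : k = 1
    · subst hk1
      have hr0 : r = 0 := by
        rcases Nat.le_one_iff_eq_zero_or_eq_one.1 hr with h | h
        · exact h
        · exact absurd ⟨h, 0, rfl⟩ hk2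
      subst hr0
      have h2 : Fintype.card (Pt 1 0) = 2 := by simp [Pt]
      have hc1 : ({Sum.inl (0, false)} : Finset (Pt 1 0))ᶜ.card = 1 := by
        rw [Finset.card_compl, h2, Finset.card_singleton]
      refine ⟨{Sum.inl (0, false)}, by simp, Finset.card_pos.1 (by rw [hc1]; omega), by rw [hc1]; simp,
        fun h => absurd ⟨1, h2⟩ h, fun σ _ x y => ?_⟩
      by_cases hxy : x = y
      · subst hxy; simp
      · have key : ∀ a b : Pt 1 0, a ≠ b →
            ¬ (a ∈ ({Sum.inl (0, false)} : Finset (Pt 1 0)) ↔ b ∈ ({Sum.inl (0, false)} : Finset (Pt 1 0))) := by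
          decide
        have h1 := key x y hxy
        have h2 := key (σ x) (σ y) (σ.injective.ne hxy)
        tauto
    obtain ⟨Sk, ⟨i0, hi0⟩, ⟨j0, hj0⟩, hle, hlt, hQS⟩ := hS (by omega)
    let S : Finset (Pt k r) := (Sk ×ˢ (Finset.univ : Finset Bool)).map Function.Embedding.inl
    have hmem : ∀ x : Pt k r, x ∈ S ↔ ∃ i ∈ Sk, proj x = some i := by
      intro x; rcases x with ⟨i, b⟩ | u <;> simp [S, proj]
    have hScard : S.card = Sk.card * 2 := by simp [S]
    have hSc := Finset.card_add_card_compl S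
    have hSkc := Finset.card_add_card_compl Sk
    rw [hcard, hScard] at hSc
    rw [Fintype.card_fin] at hSkc
    have hltk : r = 1 → Skᶜ.card < Sk.card := fun h => hlt (fun hl => hk2 ⟨h, hl⟩)
    refine ⟨S, ⟨.inl (i0, false), (hmem _).2 ⟨i0, hi0, rfl⟩⟩,
      ⟨.inl (j0, false), Finset.mem_compl.2 fun h => ?_⟩, ?_, fun hnp => ?_, fun σ hσ x y => ?_⟩
    · obtain ⟨i, hi, h'⟩ := (hmem _).1 h
      have : j0 = i := by simpa [proj] using h'
      rw [Finset.mem_compl] at hj0
      exact hj0 (this ▸ hi)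
    · rw [hScard]
      rcases Nat.le_one_iff_eq_zero_or_eq_one.1 hr with h | h
      · omega
      · have := hltk h; omega
    · rw [hScard]
      rcases Nat.le_one_iff_eq_zero_or_eq_one.1 hr with h | h
      · rw [hcard, exists_pow_two_pair hk hr] at hnp
        have := hlt (fun hl => hnp ⟨h, hl⟩)
        omega
      · have := hltk h; omega
    obtain ⟨τ, hτ, hσ⟩ := hσ
    have hτS := hQS hτ
    have haux : ∀ z, σ z ∈ S ↔ ∃ i, proj z = some i ∧ τ i ∈ Sk := by
      intro z
      rw [hmem, hσ z]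
      cases proj z <;> simp
    rcases x with ⟨i, b⟩ | u <;> rcases y with ⟨j, b'⟩ | v
    · simpa [haux, hmem, proj] using hτS i j
    · have hr1 : r = 1 := by have := v.2; omega
      have := partStab_strict (hltk hr1) hτS i
      simp [haux, hmem, proj, this]
    · have hr1 : r = 1 := by have := u.2; omega
      have := partStab_strict (hltk hr1) hτS j
      simp [haux, hmem, proj, this]
    · simp [haux, hmem, proj]
  · simp only [Fintype.card_fin] at htr
    rw [hcard, exists_pow_two_pair hk hr]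
    rintro ⟨rfl, hl⟩ x y
    rcases x with ⟨i, b⟩ | u
    · rcases y with ⟨j, b'⟩ | v
      · obtain ⟨q, hq, hqi⟩ := htr hl i j
        by_cases hb : b = b'
        · exact ⟨lift 0 q, lift_mem_pre hq, by rw [lift_inl, hqi, hb]⟩
        · refine ⟨flip j * lift 0 q, mul_mem (flip_mem_pre j) (lift_mem_pre hq), ?_⟩
          rw [Perm.mul_apply, lift_inl, hqi, flip_apply_self]
          cases b <;> cases b' <;> simp_all
      · exact v.elim0
    · exact u.elim0

/-- A good 2-group on every finite set of size `n`. -/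
theorem exists_good (n : ℕ) : ∃ Q : Subgroup (Perm (Fin n)), Good Q := by
  induction n using Nat.strong_induction_on with
  | _ n ih =>
    by_cases hn : n ≤ 1
    · have : Subsingleton (Fin n) := Fin.subsingleton_iff_le_one.2 hn
      refine ⟨⊤, ?_, fun g _ => trivial, fun h => ?_, fun _ x y => ⟨1, trivial, Subsingleton.elim _ _⟩⟩
      · intro g; exact ⟨0, Subsingleton.elim _ _⟩
      · simp at h; omega
    obtain ⟨Q, hQ⟩ := ih (n / 2) (by omega)
    have e : Pt (n / 2) (n % 2) ≃ Fin n := Fintype.equivOfCardEq (by simp [Pt]; omega)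
    exact ⟨_, good_transport e (good_pre (by omega) (by omega) hQ)⟩

end Cfsg.Agent.AltSylow
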